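import Cfsg.Agent.Lib.FpfSymThree.Perm
import Cfsg.Agent.Lib.Wielandt.Formula

/-!
# A subdirect product with a fixed-point-free action of the symmetric group of degree three

If the group is a subdirect product of three quotients permuted by `S₃`, on each of which the
corresponding transposition acts trivially, then it is abelian.
-/

set_option autoImplicit false

namespace Cfsg.Agent.Lib.FpfSymThree

open Cfsg.Agent.Lib
open scoped commutatorElement

section Basic

variable {A K : Type*} [Group A] [Group K] (φ : A →* MulAut K)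

/-- The elements acting trivially modulo an invariant subgroup. -/
def trivialMod (M : Subgroup K) (_hM : ∀ a, ∀ x ∈ M, φ a x ∈ M) : Subgroup A where
  carrier := {a | ∀ x, x⁻¹ * φ a x ∈ M}
  one_mem' := fun x => by rw [map_one, MulAut.one_apply, inv_mul_cancel]; exact M.one_mem
  mul_mem' := fun {a b} ha hb x => by
    rw [map_mul, MulAut.mul_apply,
      show x⁻¹ * φ a (φ b x) = (x⁻¹ * φ b x) * ((φ b x)⁻¹ * φ a (φ b x)) by group]
    exact M.mul_mem (hb x) (ha (φ b x))
  inv_mem' := fun {a} ha x => by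
    have h := M.inv_mem (ha (φ a⁻¹ x))
    rw [map_inv, MulAut.apply_inv_self, mul_inv_rev, inv_inv] at h
    rw [map_inv]
    exact h

theorem mem_trivialMod {M : Subgroup K} {hM : ∀ a, ∀ x ∈ M, φ a x ∈ M} {a : A} :
    a ∈ trivialMod φ M hM ↔ ∀ x, x⁻¹ * φ a x ∈ M := Iff.rfl

/-- Coprime lifting of fixed points. -/
theorem exists_fixed_of_mod [Finite A] [Finite K] [Group.IsSolvable K]
    (hcop : (Nat.card A).Coprime (Nat.card K)) (M : Subgroup K) [M.Normal]
    (hM : ∀ a, ∀ x ∈ M, φ a x ∈ M) (H : Subgroup A) {x : K}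
    (hx : ∀ h ∈ H, x⁻¹ * φ h x ∈ M) : ∃ v, (∀ h ∈ H, φ h v = v) ∧ v⁻¹ * x ∈ M := by
  have hr := Wielandt.range_mk_comp_fixedSub φ M hM
    (hcop.coprime_dvd_right M.card_subgroup_dvd_card) inferInstance H
  have hfix : (x : K ⧸ M) ∈ Wielandt.fixedSub (Wielandt.quotientAct φ M hM) H := fun h hh => by
    show ((φ h x : K) : K ⧸ M) = (x : K ⧸ M)
    exact (QuotientGroup.eq.mpr (hx h hh)).symm
  rw [← hr] at hfix
  obtain ⟨v, hv⟩ := hfix
  exact ⟨v, v.2, QuotientGroup.eq.mp hv⟩

end Basic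

variable {K : Type*} [Group K] (φ : SymThree →* MulAut K)

theorem fixed_of_rot_flip {x : K} {i : Fin 3} (hs : φ rot x = x) (ht : φ (flip i) x = x)
    (a : SymThree) : φ a x = x := by
  let S : Subgroup SymThree :=
    { carrier := {a | φ a x = x}
      one_mem' := by show φ 1 x = x; rw [map_one]; rfl
      mul_mem' := fun {a b} (ha : φ a x = x) (hb : φ b x = x) => by
        show φ (a * b) x = x
        rw [map_mul, MulAut.mul_apply, hb, ha]
      inv_mem' := fun {a} (ha : φ a x = x) => by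
        show φ a⁻¹ x = x
        conv_lhs => rw [← ha]
        rw [map_inv, MulAut.inv_apply_self] }
  have h : a ∈ S := by
    rw [eq_top_of_rot_flip (S := S) (i := i) hs ht]
    exact Subgroup.mem_top a
  exact h

section

variable [Finite K] [Group.IsSolvable K] (hcop : (Nat.card K).Coprime 6)
  (hfpf : ∀ x, (∀ a, φ a x = x) → x = 1)
  (N : Fin 3 → Subgroup K) [∀ i, (N i).Normal]
  (hmap : ∀ a i, ∀ x ∈ N i, φ a x ∈ N (a i))
  (hbot : ∀ x, (∀ i, x ∈ N i) → x = 1)
  (htriv : ∀ i x, x⁻¹ * φ (flip i) x ∈ N i)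

omit [Finite K] [Group.IsSolvable K] in
include hmap hbot htriv hfpf in
theorem inf_eq_bot_of_rot (i : Fin 3) : N (rot i) ⊓ N (rot (rot i)) = ⊥ := by
  rw [eq_bot_iff]
  rintro x ⟨hx1, hx2⟩
  obtain ⟨-, hf1, hf2, hsss⟩ := flip_apply i
  have hcases : ∀ m, m = i ∨ m = rot i ∨ m = rot (rot i) :=
    (by decide +kernel : ∀ i m : Fin 3, m = i ∨ m = rot i ∨ m = rot (rot i)) i
  have hall : ∀ {x : K}, x ∈ N i → x ∈ N (rot i) → x ∈ N (rot (rot i)) → x = 1 :=
    fun h0 h1 h2 => hbot _ fun m => by rcases hcases m with rfl | rfl | rfl <;> assumption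
  -- the transposition fixes `x`
  have hτx : φ (flip i) x = x := by
    have h1 : φ (flip i) x ∈ N (rot (rot i)) := hf1 ▸ hmap _ _ x hx1
    have h2 : φ (flip i) x ∈ N (rot i) := hf2 ▸ hmap _ _ x hx2
    exact (inv_mul_eq_one.mp (hall (htriv i x) (mul_mem (inv_mem hx1) h2)
      (mul_mem (inv_mem hx2) h1))).symm
  set y := φ rot x with hy
  set z := φ rot y with hz
  have hy1 : y ∈ N (rot (rot i)) := hmap _ _ x hx1
  have hy2 : y ∈ N i := hsss ▸ hmap rot _ x hx2
  have hz1 : z ∈ N i := hsss ▸ hmap rot _ y hy1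
  have hz2 : z ∈ N (rot i) := hmap rot _ y hy2
  have hco : ∀ {u v : K} {a b c d : Fin 3}, u ∈ N a → u ∈ N b → v ∈ N c → v ∈ N d →
      (∀ m, m = a ∨ m = b ∨ m = c ∨ m = d) → u * v = v * u := by
    intro u v a b c d ha hb hc hd hm
    have hl : ∀ m, u ∈ N m → u * v * u⁻¹ * v⁻¹ ∈ N m := fun m h => by
      rw [show u * v * u⁻¹ * v⁻¹ = u * (v * u⁻¹ * v⁻¹) by group]
      exact mul_mem h (Subgroup.Normal.conj_mem inferInstance _ (inv_mem h) v)
    have hr : ∀ m, v ∈ N m → u * v * u⁻¹ * v⁻¹ ∈ N m := fun m h =>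
      mul_mem (Subgroup.Normal.conj_mem inferInstance _ h u) (inv_mem h)
    have h1 : u * v * u⁻¹ * v⁻¹ = 1 := hbot _ fun m => by
      rcases hm m with rfl | rfl | rfl | rfl
      · exact hl _ ha
      · exact hl _ hb
      · exact hr _ hc
      · exact hr _ hd
    rw [mul_inv_eq_one, mul_inv_eq_iff_eq_mul] at h1
    exact h1
  have hxy : x * y = y * x :=
    hco hx1 hx2 hy1 hy2 fun m => by rcases hcases m with rfl | rfl | rfl <;> tauto
  have hxz : x * z = z * x :=
    hco hx1 hx2 hz1 hz2 fun m => by rcases hcases m with rfl | rfl | rfl <;> tauto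
  have hyz : y * z = z * y :=
    hco hy1 hy2 hz1 hz2 fun m => by rcases hcases m with rfl | rfl | rfl <;> tauto
  have hsz : φ rot z = x := by
    rw [hz, hy, ← MulAut.mul_apply, ← MulAut.mul_apply, ← map_mul, ← map_mul, mul_assoc,
      rot_cube, map_one]; rfl
  have hτy : φ (flip i) y = z := by
    rw [hz, hy, ← MulAut.mul_apply, ← map_mul, flip_mul_rot, map_mul, MulAut.mul_apply, hτx,
      map_mul, MulAut.mul_apply]
  have hτz : φ (flip i) z = y := by
    rw [← hτy, ← MulAut.mul_apply, ← map_mul, flip_mul_self, map_one]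
    rfl
  have h1 : φ rot (x * y * z) = x * y * z := by
    rw [map_mul, map_mul, ← hy, ← hz, hsz, mul_assoc, ← hxz, ← mul_assoc, ← hxy]
  have h2 : φ (flip i) (x * y * z) = x * y * z := by
    rw [map_mul, map_mul, hτx, hτy, hτz, mul_assoc, ← hyz, ← mul_assoc]
  have h3 := hfpf _ (fixed_of_rot_flip φ h1 h2)
  have h4 : x ∈ N i := by
    rw [mul_assoc, mul_eq_one_iff_eq_inv] at h3
    rw [h3]
    exact inv_mem (mul_mem hy2 hz1)
  exact Subgroup.mem_bot.mpr (hall h4 hx1 hx2)

omit [Finite K] [Group.IsSolvable K] in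
include hmap hbot htriv hfpf in
theorem inf_eq_bot_of_ne {i j : Fin 3} (hij : i ≠ j) : N i ⊓ N j = ⊥ := by
  obtain ⟨m, ⟨rfl, rfl⟩ | ⟨rfl, rfl⟩⟩ := exists_rot_pair i j hij
  · exact inf_eq_bot_of_rot φ hfpf N hmap hbot htriv m
  · rw [inf_comm]
    exact inf_eq_bot_of_rot φ hfpf N hmap hbot htriv m

include hmap hbot htriv hfpf hcop in
/-- The subdirect product is abelian. -/
theorem commute_of_subdirect (x y : K) : x * y = y * x := by
  have hpair : ∀ i j l : Fin 3, flip i l = j → N l ≤ N i ⊔ N j := by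
    intro i j l hlj n hn
    have h1 : φ (flip i) n ∈ N j := hlj ▸ hmap _ _ n hn
    have h2 := htriv i n
    rw [show n = φ (flip i) n * (n⁻¹ * φ (flip i) n)⁻¹ by group]
    exact mul_mem (Subgroup.mem_sup_right h1) (Subgroup.mem_sup_left (inv_mem h2))
  set M : Subgroup K := N 0 ⊔ N 1 ⊔ N 2 with hMdef
  have hle : ∀ i, N i ≤ M := by
    intro i
    fin_cases i
    exacts [le_sup_of_le_left le_sup_left, le_sup_of_le_left le_sup_right, le_sup_right]
  have hMinv : ∀ a, ∀ x ∈ M, φ a x ∈ M := by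
    intro a x hx
    have : M ≤ M.comap (φ a).toMonoidHom := by
      refine sup_le (sup_le ?_ ?_) ?_ <;>
        exact fun n hn => hle _ (hmap a _ n hn)
    exact this hx
  have hMtop : ∀ z, z ∈ M := by
    intro z
    have hS : trivialMod φ M hMinv = ⊤ := eq_top_of_flip_flip (i := 0) (j := 1) (by decide)
      (fun x => hle 0 (htriv 0 x)) (fun x => hle 1 (htriv 1 x))
    have hz : ∀ h ∈ (⊤ : Subgroup SymThree), z⁻¹ * φ h z ∈ M := fun h _ =>
      ((mem_trivialMod φ).mp (hS ▸ Subgroup.mem_top h : h ∈ trivialMod φ M hMinv)) z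
    obtain ⟨v, hv, hvz⟩ := exists_fixed_of_mod φ
      (by rw [natCard_symThree]; exact hcop.symm) M hMinv ⊤ hz
    rw [hfpf v fun a => hv a (Subgroup.mem_top a), inv_one, one_mul] at hvz
    exact hvz
  -- commutators lie in each `N i`
  rw [← commutatorElement_eq_one_iff_mul_comm]
  refine hbot _ fun i => ?_
  obtain ⟨j, hji⟩ : ∃ j, i ≠ j := ⟨i + 1, by revert i; decide⟩
  obtain ⟨l, hli, hlj, hflip, hcases⟩ := exists_third i j hji
  have hflip' : flip i j = l := by
    rw [← hflip, ← Equiv.Perm.mul_apply, flip_mul_self]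
    rfl
  have htop : ∀ j' l', flip i l' = j' → (∀ m, m = i ∨ m = j' ∨ m = l') → ∀ z, z ∈ N i ⊔ N j' := by
    intro j' l' h hc z
    have hN : ∀ m, N m ≤ N i ⊔ N j' := by
      intro m
      rcases hc m with rfl | rfl | rfl
      · exact le_sup_left
      · exact le_sup_right
      · exact hpair i j' _ h
    have hM : M ≤ N i ⊔ N j' := sup_le (sup_le (hN 0) (hN 1)) (hN 2)
    exact hM (hMtop z)
  obtain ⟨n, hn, u, hu, rfl⟩ := Subgroup.mem_sup_of_normal_left.mp (htop j l hflip hcases x)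
  obtain ⟨n', hn', w, hw, rfl⟩ :=
    Subgroup.mem_sup_of_normal_left.mp (htop l j hflip' (fun m => (hcases m).imp_right Or.symm) y)
  have huw : u * w = w * u := by
    rw [← commutatorElement_eq_one_iff_mul_comm, ← Subgroup.mem_bot,
      ← inf_eq_bot_of_ne φ hfpf N hmap hbot htriv (Ne.symm hlj)]
    refine ⟨?_, ?_⟩
    · rw [commutatorElement_def, show u * w * u⁻¹ * w⁻¹ = u * (w * u⁻¹ * w⁻¹) by group]
      exact (N _).mul_mem hu (Subgroup.Normal.conj_mem inferInstance _ ((N _).inv_mem hu) w)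
    · rw [commutatorElement_def]
      exact (N _).mul_mem (Subgroup.Normal.conj_mem inferInstance _ hw u) ((N _).inv_mem hw)
  have hk : ∀ {g : K}, g ∈ N i → QuotientGroup.mk' (N i) g = 1 := fun hg =>
    (QuotientGroup.eq_one_iff _).mpr hg
  rw [← QuotientGroup.eq_one_iff]
  show QuotientGroup.mk' (N i) ⁅n * u, n' * w⁆ = 1
  rw [map_commutatorElement, map_mul, map_mul, hk hn, hk hn', one_mul, one_mul,
    ← map_commutatorElement, commutatorElement_eq_one_iff_mul_comm.mpr huw, map_one]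

end

end Cfsg.Agent.Lib.FpfSymThree
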