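import Mathlib

/-!
# Joint eigenspaces

Joint eigenspaces of a family of endomorphisms are independent; a commuting family over an
algebraically closed field has a joint eigenvector; automorphisms of the index permute them.
-/

set_option autoImplicit false

namespace Cfsg.Agent.Lib.FpfSymThree

open Module

variable {k W ι : Type*} [Field k] [AddCommGroup W] [Module k W]

/-- The joint eigenspace of the family `f` for the eigenvalue function `χ`. -/
def jointEigen (f : ι → Module.End k W) (χ : ι → k) : Submodule k W where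
  carrier := {v | ∀ i, f i v = χ i • v}
  zero_mem' := fun i => by rw [map_zero, smul_zero]
  add_mem' := fun {a b} ha hb i => by rw [map_add, ha i, hb i, smul_add]
  smul_mem' := fun c v hv i => by rw [map_smul, hv i, smul_comm]

theorem mem_jointEigen {f : ι → Module.End k W} {χ : ι → k} {v : W} :
    v ∈ jointEigen f χ ↔ ∀ i, f i v = χ i • v := Iff.rfl

theorem iSupIndep_jointEigen (f : ι → Module.End k W) : iSupIndep (jointEigen f) := by
  classical
  rw [iSupIndep_iff_finsetSum_eq_zero_imp_eq_zero]
  intro s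
  induction s using Finset.strongInduction with
  | _ s ih =>
    intro v hv hsum χ₀ hχ₀
    have hrest : ∀ χ ∈ s.erase χ₀, v χ = 0 := by
      intro χ hχ
      obtain ⟨hne, hχs⟩ := Finset.mem_erase.mp hχ
      obtain ⟨i, hi⟩ : ∃ i, χ i ≠ χ₀ i := Function.ne_iff.mp hne
      have h1 : ∑ ψ ∈ s.erase χ₀, (ψ i - χ₀ i) • v ψ = 0 := by
        have h2 : ∑ ψ ∈ s, (ψ i - χ₀ i) • v ψ = 0 := by
          have h3 : ∑ ψ ∈ s, ψ i • v ψ = 0 := by
            rw [← map_zero (f i), ← hsum, map_sum]
            exact Finset.sum_congr rfl fun ψ hψ => (hv ψ hψ i).symm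
          simp only [sub_smul, Finset.sum_sub_distrib, h3, ← Finset.smul_sum, hsum, smul_zero,
            sub_zero]
        rw [← Finset.add_sum_erase s _ hχ₀, sub_self, zero_smul, zero_add] at h2
        exact h2
      have h := ih _ (Finset.erase_ssubset hχ₀) (fun ψ => (ψ i - χ₀ i) • v ψ)
        (fun ψ hψ => Submodule.smul_mem _ _ (hv ψ (Finset.mem_of_mem_erase hψ))) h1 χ hχ
      exact (smul_eq_zero.mp h).resolve_left (sub_ne_zero.mpr hi)
    rw [← Finset.add_sum_erase s _ hχ₀, Finset.sum_eq_zero hrest, add_zero] at hsum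
    exact hsum

theorem exists_jointEigen_ne_bot [IsAlgClosed k] [FiniteDimensional k W] [Nontrivial W]
    (f : ι → Module.End k W) (hcomm : ∀ i j, f i * f j = f j * f i) :
    ∃ χ, jointEigen f χ ≠ ⊥ := by
  obtain ⟨U, ⟨hU0, hUinv⟩, hmin⟩ := exists_minimal_of_wellFoundedLT
    (fun U : Submodule k W => U ≠ ⊥ ∧ ∀ i, ∀ v ∈ U, f i v ∈ U)
    ⟨⊤, top_ne_bot, fun _ _ _ => trivial⟩
  haveI : Nontrivial U := (Submodule.nontrivial_iff_ne_bot).mpr hU0
  have hc : ∀ i, ∃ c : k, ∀ v ∈ U, f i v = c • v := by
    intro i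
    obtain ⟨c, hc⟩ := Module.End.exists_eigenvalue ((f i).restrict (hUinv i))
    obtain ⟨u, hu⟩ := hc.exists_hasEigenvector
    have hmem : (u : W) ∈ U ⊓ Module.End.eigenspace (f i) c :=
      ⟨u.2, Module.End.mem_eigenspace_iff.mpr (congrArg Subtype.val hu.apply_eq_smul)⟩
    have hne : U ⊓ Module.End.eigenspace (f i) c ≠ ⊥ := fun h => by
      rw [h, Submodule.mem_bot] at hmem
      exact hu.2 (Subtype.ext hmem)
    have hinv : ∀ j, ∀ v ∈ U ⊓ Module.End.eigenspace (f i) c,
        f j v ∈ U ⊓ Module.End.eigenspace (f i) c := fun j v hv => ⟨hUinv j v hv.1, by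
      show f j v ∈ Module.End.eigenspace (f i) c
      rw [Module.End.mem_eigenspace_iff, ← Module.End.mul_apply, hcomm i j,
        Module.End.mul_apply, Module.End.mem_eigenspace_iff.mp hv.2, map_smul]⟩
    exact ⟨c, fun v hv => Module.End.mem_eigenspace_iff.mp
      ((hmin ⟨hne, hinv⟩ inf_le_left) hv).2⟩
  choose χ hχ using hc
  refine ⟨χ, fun h => hU0 ?_⟩
  rw [Submodule.eq_bot_iff]
  intro v hv
  have : v ∈ jointEigen f χ := fun i => hχ i v hv
  rwa [h, Submodule.mem_bot] at this

variable {T : Type*} [Group T]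

/-- Precomposition with an inverse automorphism. -/
def pullback (α : MulAut T) (χ : T → k) : T → k := fun t => χ (α.symm t)

omit [Field k] in
theorem pullback_one (χ : T → k) : pullback (1 : MulAut T) χ = χ := rfl

omit [Field k] in
theorem pullback_mul (α β : MulAut T) (χ : T → k) :
    pullback (α * β) χ = pullback α (pullback β χ) := rfl

/-- An endomorphism intertwining `α` sends joint eigenspaces to joint eigenspaces. -/
theorem apply_mem_jointEigen {f : T → Module.End k W} {α : MulAut T} {M : Module.End k W}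
    (hM : ∀ t, M * f t = f (α t) * M) {χ : T → k} {v : W} (hv : v ∈ jointEigen f χ) :
    M v ∈ jointEigen f (pullback α χ) := fun t => by
  have h := LinearMap.congr_fun (hM (α.symm t)) v
  rw [Module.End.mul_apply, Module.End.mul_apply, hv, map_smul, MulEquiv.apply_symm_apply] at h
  exact h.symm

end Cfsg.Agent.Lib.FpfSymThree
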