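import Cfsg.Agent.Lib.FpfSymThree.Module

/-!
# Fixed-point-free actions of `S₃` on solvable groups of order prime to six

The derived subgroup is nilpotent: it centralises every minimal invariant normal subgroup, by the
module theorem applied over an algebraically closed field.
-/

set_option autoImplicit false

namespace Cfsg.Agent.Lib.FpfSymThree

open Cfsg.Agent.Lib Module
open scoped commutatorElement Matrix

universe u

section Vector

variable {K : Type*} [Group K] [Finite K] [Group.IsSolvable K] {k W : Type*} [Field k]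
  [IsAlgClosed k] [AddCommGroup W] [Module k W] [FiniteDimensional k W] [Nontrivial W]

/-- Commutators have a common nonzero fixed vector. -/
theorem exists_commutator_fixed (φ : SymThree →* MulAut K) (ρ : K →* Module.End k W)
    (σ : SymThree →* Module.End k W) (hcompat : ∀ a x, σ a * ρ x = ρ (φ a x) * σ a)
    (hsum : ∀ v, ∑ a, σ a v = 0) (hfpf : ∀ x, (∀ a, φ a x = x) → x = 1)
    (hcop : (Nat.card K).Coprime 6) (h2 : (2 : k) ≠ 0) (h3 : (3 : k) ≠ 0) :
    ∃ v : W, v ≠ 0 ∧ ∀ x y : K, ρ ⁅x, y⁆ v = v := by
  classical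
  obtain ⟨U, ⟨hU0, hUρ, hUσ⟩, hmin⟩ := exists_minimal_of_wellFoundedLT
    (fun U : Submodule k W => U ≠ ⊥ ∧ (∀ x, ∀ v ∈ U, ρ x v ∈ U) ∧ ∀ a, ∀ v ∈ U, σ a v ∈ U)
    ⟨⊤, top_ne_bot, fun _ _ _ => trivial, fun _ _ _ => trivial⟩
  haveI : Nontrivial U := Submodule.nontrivial_iff_ne_bot.mpr hU0
  let ρU : K →* Module.End k U :=
    { toFun := fun x => (ρ x).restrict (hUρ x)
      map_one' := LinearMap.ext fun u => Subtype.ext (by show ρ 1 u = _; rw [map_one]; rfl)
      map_mul' := fun x y => LinearMap.ext fun u => Subtype.ext (by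
        show ρ (x * y) u = ρ x (ρ y u); rw [map_mul]; rfl) }
  let σU : SymThree →* Module.End k U :=
    { toFun := fun a => (σ a).restrict (hUσ a)
      map_one' := LinearMap.ext fun u => Subtype.ext (by show σ 1 u = _; rw [map_one]; rfl)
      map_mul' := fun x y => LinearMap.ext fun u => Subtype.ext (by
        show σ (x * y) u = σ x (σ y u); rw [map_mul]; rfl) }
  have hcU : ∀ a x, σU a * ρU x = ρU (φ a x) * σU a := fun a x =>
    LinearMap.ext fun u => Subtype.ext (LinearMap.congr_fun (hcompat a x) u)
  let N : Subgroup K :=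
    { carrier := {x | ρU x = 1}
      one_mem' := map_one ρU
      mul_mem' := fun {x y} (hx : ρU x = 1) (hy : ρU y = 1) => by
        show ρU (x * y) = 1
        rw [map_mul, hx, hy, mul_one]
      inv_mem' := fun {x} (hx : ρU x = 1) => by
        show ρU x⁻¹ = 1
        have h := map_mul ρU x⁻¹ x
        rw [inv_mul_cancel, map_one, hx, mul_one] at h
        exact h.symm }
  haveI : N.Normal := ⟨fun n (hn : ρU n = 1) g => by
    show ρU (g * n * g⁻¹) = 1
    rw [map_mul, map_mul, hn, mul_one, ← map_mul, mul_inv_cancel, map_one]⟩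
  have hN : ∀ a, ∀ n ∈ N, φ a n ∈ N := fun a n (hn : ρU n = 1) => by
    show ρU (φ a n) = 1
    have h := hcU a n
    rw [hn, mul_one] at h
    have h2 := congrArg (· * σU a⁻¹) h
    simp only [mul_assoc, ← map_mul, mul_inv_cancel, map_one, mul_one] at h2
    exact h2.symm
  let ρq : K ⧸ N →* Module.End k U := QuotientGroup.lift N ρU fun n hn => hn
  have hρq : ∀ x : K, ρq x = ρU x := fun _ => rfl
  have hfpfq : ∀ q : K ⧸ N, (∀ a, Wielandt.quotientAct φ N hN a q = q) → q = 1 := by
    intro q hq
    induction q using QuotientGroup.induction_on with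
    | H x =>
      obtain ⟨v, hv, hvx⟩ := exists_fixed_of_mod φ (by rw [natCard_symThree]; exact hcop.symm) N hN
        ⊤ (x := x) fun a _ => QuotientGroup.eq.mp (hq a).symm
      rw [hfpf v fun a => hv a (Subgroup.mem_top a), inv_one, one_mul] at hvx
      exact (QuotientGroup.eq_one_iff x).mpr hvx
  have hyp : IsFpfModule (Wielandt.quotientAct φ N hN) ρq σU :=
    { compat := fun a q => by
        induction q using QuotientGroup.induction_on with
        | H x => exact hcU a x
      irr := fun S hS1 hS2 => by
        by_contra hS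
        push Not at hS
        have hinv : (∀ x, ∀ v ∈ S.map U.subtype, ρ x v ∈ S.map U.subtype) ∧
            ∀ a, ∀ v ∈ S.map U.subtype, σ a v ∈ S.map U.subtype := by
          refine ⟨?_, ?_⟩
          · rintro x _ ⟨u, hu, rfl⟩
            exact ⟨ρq (x : K ⧸ N) u, hS1 _ u hu, rfl⟩
          · rintro a _ ⟨u, hu, rfl⟩
            exact ⟨σU a u, hS2 a u hu, rfl⟩
        have hne : S.map U.subtype ≠ ⊥ := fun h => hS.1 (by
          apply Submodule.map_injective_of_injective U.injective_subtype
          rw [h, Submodule.map_bot])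
        have h := hmin ⟨hne, hinv.1, hinv.2⟩ (Submodule.map_subtype_le U S)
        refine hS.2 (Submodule.map_injective_of_injective U.injective_subtype
          (le_antisymm ?_ ?_))
        · exact Submodule.map_mono le_top
        · rw [Submodule.map_top, Submodule.range_subtype]
          exact h
      sum_eq := fun u => Subtype.ext (by
        rw [Submodule.coe_sum]
        exact hsum u)
      inj := by
        rw [injective_iff_map_eq_one]
        intro q
        induction q using QuotientGroup.induction_on with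
        | H x => exact fun h => (QuotientGroup.eq_one_iff x).mpr h
      fpf := hfpfq
      cop := hcop.coprime_dvd_left N.card_quotient_dvd_card
      two_ne := h2
      three_ne := h3 }
  haveI : Group.IsSolvable (K ⧸ N) :=
    Group.isSolvable_of_surjective (QuotientGroup.mk'_surjective N)
  obtain ⟨v, hv, hv0⟩ := Submodule.exists_mem_ne_zero_of_ne_bot hU0
  refine ⟨v, hv0, fun x y => ?_⟩
  have h : ρU ⁅x, y⁆ = 1 := by
    rw [← hρq, ← QuotientGroup.mk'_apply, map_commutatorElement,
      commutatorElement_eq_one_iff_mul_comm.mpr (hyp.comm _ _), map_one]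
  exact congrArg Subtype.val (LinearMap.congr_fun h ⟨v, hv⟩)

end Vector

section Group

/-- An invariant elementary abelian normal subgroup has a nontrivial point centralised by the
derived subgroup. -/
theorem exists_centralized {G : Type*} [Group G] [Finite G] [Group.IsSolvable G]
    (φ : SymThree →* MulAut G) (hcop : (Nat.card G).Coprime 6)
    (hfpf : ∀ x, (∀ a, φ a x = x) → x = 1) {r : ℕ} (hr : r.Prime) (N : Subgroup G) [N.Normal]
    (hN : ∀ a, ∀ n ∈ N, φ a n ∈ N) (hN1 : N ≠ ⊥) (hNc : ∀ x y : N, x * y = y * x)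
    (hNe : ∀ x : N, x ^ r = 1) :
    ∃ n ∈ N, n ≠ 1 ∧ ∀ g ∈ commutator G, g * n = n * g := by
  classical
  haveI := Fact.mk hr
  letI : CommGroup N := { N.toGroup with mul_comm := hNc }
  letI : Module (ZMod r) (Additive N) :=
    AddCommGroup.zmodModule (n := r) fun x => congrArg Additive.ofMul (hNe x.toMul)
  haveI : Module.Finite (ZMod r) (Additive N) := Module.Finite.of_finite
  set d := Module.finrank (ZMod r) (Additive N)
  let b : Module.Basis (Fin d) (ZMod r) (Additive N) := Module.finBasis (ZMod r) (Additive N)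
  let k := AlgebraicClosure (ZMod r)
  let lin : MulAut N →* Module.End (ZMod r) (Additive N) :=
    { toFun := fun α => AddMonoidHom.toZModLinearMap r (MonoidHom.toAdditive α.toMonoidHom)
      map_one' := rfl
      map_mul' := fun _ _ => rfl }
  let Φ : Module.End (ZMod r) (Additive N) →+* Module.End k (Fin d → k) :=
    ((Matrix.toLinAlgEquiv' (R := k) (n := Fin d)).toRingEquiv.toRingHom.comp
      (algebraMap (ZMod r) k).mapMatrix).comp (LinearMap.toMatrixAlgEquiv b).toRingEquiv.toRingHom
  have hΦ : ∀ f v, Φ f v = (LinearMap.toMatrix b b f).map (algebraMap (ZMod r) k) *ᵥ v :=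
    fun f v => rfl
  let L : G →* Module.End (ZMod r) (Additive N) := lin.comp MulAut.conjNormal
  let M : SymThree →* Module.End (ZMod r) (Additive N) :=
    lin.comp (Wielandt.restrictAct φ N hN)
  have hd : 0 < d := by
    haveI : Nontrivial N := (Subgroup.nontrivial_iff_ne_bot N).mpr hN1
    exact Module.finrank_pos
  haveI : Nonempty (Fin d) := ⟨⟨0, hd⟩⟩
  have hcompat : ∀ a x, M a * L x = L (φ a x) * M a := fun a x =>
    LinearMap.ext fun n => congrArg Additive.ofMul (Subtype.ext (by
      show φ a (x * (n.toMul : G) * x⁻¹) = φ a x * φ a n.toMul * (φ a x)⁻¹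
      rw [map_mul, map_mul, map_inv] : _))
  have hsum : ∑ a, M a = 0 := by
    refine LinearMap.ext fun n => ?_
    rw [LinearMap.coe_sum, Finset.sum_apply, LinearMap.zero_apply]
    set w := ∑ a, M a n
    have hfix : ∀ c, M c w = w := fun c => by
      rw [map_sum]
      exact Fintype.sum_equiv (Equiv.mulLeft c) _ _ fun a => by
        rw [Equiv.coe_mulLeft, map_mul, Module.End.mul_apply]
    have h1 : (w.toMul : G) = 1 := hfpf _ fun c =>
      congrArg (fun z : Additive N => (z.toMul : G)) (hfix c)
    exact Additive.toMul.injective (Subtype.ext h1)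
  have hrN : r ∣ Nat.card G := by
    haveI : Nontrivial N := (Subgroup.nontrivial_iff_ne_bot N).mpr hN1
    obtain ⟨x, hx⟩ := exists_ne (1 : N)
    rw [← orderOf_eq_prime (hNe x) hx]
    exact (orderOf_dvd_natCard x).trans N.card_subgroup_dvd_card
  have hne : ∀ m : ℕ, m ∣ 6 → (m : k) = 0 → r = 1 := by
    intro m hm h0
    haveI : CharP k r := charP_of_injective_algebraMap (algebraMap (ZMod r) k).injective r
    exact Nat.eq_one_of_dvd_coprimes (hcop.coprime_dvd_right hm) hrN
      ((CharP.cast_eq_zero_iff k r m).mp h0)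
  have h2 : (2 : k) ≠ 0 := fun h => hr.ne_one (hne 2 (by norm_num) (by exact_mod_cast h))
  have h3 : (3 : k) ≠ 0 := fun h => hr.ne_one (hne 3 (by norm_num) (by exact_mod_cast h))
  obtain ⟨v, hv0, hv⟩ := exists_commutator_fixed φ (Φ.toMonoidHom.comp L) (Φ.toMonoidHom.comp M)
    (fun a x => by
      show Φ (M a) * Φ (L x) = Φ (L (φ a x)) * Φ (M a)
      rw [← map_mul, hcompat, map_mul])
    (fun v => by
      show ∑ a, Φ (M a) v = 0
      rw [← Finset.sum_apply, ← LinearMap.coe_sum, ← map_sum, hsum, map_zero]
      rfl)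
    hfpf hcop h2 h3
  obtain ⟨i₀, hi₀⟩ : ∃ i, v i ≠ 0 := Function.ne_iff.mp hv0
  obtain ⟨f, hf⟩ : ∃ f : k →ₗ[ZMod r] ZMod r, f (v i₀) ≠ 0 := by
    by_contra hno
    push Not at hno
    exact hi₀ ((Module.forall_dual_apply_eq_zero_iff (ZMod r) (v i₀)).mp hno)
  set w : Additive N := b.equivFun.symm fun i => f (v i) with hw
  have hrepr : ⇑(b.repr w) = fun i => f (v i) := b.equivFun.apply_symm_apply _
  have hw0 : w ≠ 0 := fun h => hf (by
    have h' := congrFun hrepr i₀
    rw [h, map_zero] at h'
    exact h'.symm)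
  have hwfix : ∀ x y : G, L ⁅x, y⁆ w = w := by
    intro x y
    refine b.repr.injective (DFunLike.coe_injective ?_)
    rw [← LinearMap.toMatrix_mulVec_repr b b, hrepr]
    funext i
    have h : Φ (L ⁅x, y⁆) v i = v i := congrFun (hv x y) i
    rw [hΦ] at h
    conv_rhs => rw [← h]
    simp only [Matrix.mulVec, dotProduct, Matrix.map_apply, map_sum, ← Algebra.smul_def,
      map_smul, smul_eq_mul]
  refine ⟨w.toMul, w.toMul.2, fun h => hw0 ?_, fun g hg => ?_⟩
  · exact Additive.toMul.injective (Subtype.ext h)
  · have hle : commutator G ≤ Subgroup.centralizer {(w.toMul : G)} := by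
      rw [commutator_def, Subgroup.commutator_le]
      intro x _ y _
      rw [Subgroup.mem_centralizer_singleton_iff]
      have h : ⁅x, y⁆ * (w.toMul : G) * ⁅x, y⁆⁻¹ = (w.toMul : G) :=
        congrArg (fun z : Additive N => (z.toMul : G)) (hwfix x y)
      exact mul_inv_eq_iff_eq_mul.mp h
    exact Subgroup.mem_centralizer_singleton_iff.mp (hle hg)

/-- **The theorem**: the derived subgroup is nilpotent. -/
theorem isNilpotent_commutator {G : Type u} [Group G] [Finite G] [Group.IsSolvable G]
    (φ : SymThree →* MulAut G) (hcop : (Nat.card G).Coprime 6)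
    (hfpf : ∀ x, (∀ a, φ a x = x) → x = 1) : Group.IsNilpotent (commutator G) := by
  induction hn : Nat.card G using Nat.strong_induction_on generalizing G with
  | _ m ih =>
    rcases subsingleton_or_nontrivial G with hG | hG
    · infer_instance
    obtain ⟨r, N₀, hr, hN₀1, hN₀n, hN₀c, hN₀e, hN₀inv⟩ :=
      Wielandt.exists_elementary_invariant (V := G) inferInstance
    obtain ⟨N, ⟨hN1, hNn, hN, hNle⟩, hmin⟩ := exists_minimal_of_wellFoundedLT
      (fun N : Subgroup G => N ≠ ⊥ ∧ N.Normal ∧ (∀ a, ∀ n ∈ N, φ a n ∈ N) ∧ N ≤ N₀)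
      ⟨N₀, hN₀1, hN₀n, fun a => hN₀inv (φ a), le_rfl⟩
    haveI := hNn
    have hNc : ∀ x y : N, x * y = y * x := fun x y =>
      Subtype.ext (congrArg Subtype.val (hN₀c ⟨x, hNle x.2⟩ ⟨y, hNle y.2⟩) :)
    have hNe : ∀ x : N, x ^ r = 1 := fun x => Subtype.ext (by
      have h := congrArg Subtype.val (hN₀e ⟨x, hNle x.2⟩)
      simpa using h)
    obtain ⟨n₀, hn₀N, hn₀1, hn₀c⟩ := exists_centralized φ hcop hfpf hr N hN hN1 hNc hNe
    -- the derived subgroup centralises `N`
    set D := Subgroup.centralizer (commutator G : Set G) with hD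
    have hDinv : ∀ a, ∀ x ∈ D, φ a x ∈ D := by
      intro a x hx
      rw [hD, Subgroup.mem_centralizer_iff] at hx ⊢
      intro g hg
      have hg' : φ a⁻¹ g ∈ commutator G := by
        have h := (inferInstance : (commutator G).Characteristic).fixed (φ a⁻¹)
        rw [← h] at hg
        exact Subgroup.mem_comap.mp hg
      have h := congrArg (φ a) (hx _ hg')
      rw [map_mul, map_mul, map_inv, MulAut.apply_inv_self] at h
      exact h
    haveI : D.Normal := by rw [hD]; infer_instance
    have hND : N ≤ D := by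
      have h := hmin (y := N ⊓ D) ⟨fun h => hn₀1 ?_, inferInstance,
        fun a n hn => ⟨hN a n hn.1, hDinv a n hn.2⟩, inf_le_left.trans hNle⟩ inf_le_left
      · exact h.trans inf_le_right
      · have : n₀ ∈ N ⊓ D := ⟨hn₀N, Subgroup.mem_centralizer_iff.mpr hn₀c⟩
        rwa [h, Subgroup.mem_bot] at this
    -- induction in the quotient
    haveI : Group.IsSolvable (G ⧸ N) :=
      Group.isSolvable_of_surjective (QuotientGroup.mk'_surjective N)
    haveI hq : Group.IsNilpotent (commutator (G ⧸ N)) := by
      refine ih _ ?_ (Wielandt.quotientAct φ N hN)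
        (hcop.coprime_dvd_left N.card_quotient_dvd_card) (fun q hq => ?_) rfl
      · rw [← hn, Subgroup.card_eq_card_quotient_mul_card_subgroup N]
        haveI : Nontrivial N := (Subgroup.nontrivial_iff_ne_bot N).mpr hN1
        exact lt_mul_of_one_lt_right Nat.card_pos Finite.one_lt_card
      · induction q using QuotientGroup.induction_on with
        | H x =>
          obtain ⟨v, hv, hvx⟩ := exists_fixed_of_mod φ
            (by rw [natCard_symThree]; exact hcop.symm) N hN ⊤ (x := x)
            fun a _ => QuotientGroup.eq.mp (hq a).symm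
          rw [hfpf v fun a => hv a (Subgroup.mem_top a), inv_one, one_mul] at hvx
          exact (QuotientGroup.eq_one_iff x).mpr hvx
    have himg : ∀ g ∈ commutator G, QuotientGroup.mk' N g ∈ commutator (G ⧸ N) := by
      intro g hg
      have h : (commutator G).map (QuotientGroup.mk' N) ≤ commutator (G ⧸ N) := by
        rw [commutator_def, Subgroup.map_commutator, commutator_def]
        exact Subgroup.commutator_mono le_top le_top
      exact h (Subgroup.mem_map_of_mem _ hg)
    let f : commutator G →* commutator (G ⧸ N) :=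
      ((QuotientGroup.mk' N).comp (commutator G).subtype).codRestrict _ fun g => himg g g.2
    refine Subgroup.isNilpotent_of_ker_le_center f fun g hg => ?_
    have hgN : (g : G) ∈ N :=
      (QuotientGroup.eq_one_iff _).mp (congrArg Subtype.val (MonoidHom.mem_ker.mp hg))
    rw [Subgroup.mem_center_iff]
    intro g'
    exact Subtype.ext (Subgroup.mem_centralizer_iff.mp (hND hgN) g' g'.2)

end Group

end Cfsg.Agent.Lib.FpfSymThree
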