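import Cfsg.Agent.Lib.FpfSymThree.Weights

/-!
# An element of order three without fixed points on a class two module

A group of class two modulo the scalars `Z`, with nondegenerate commutator pairing, represented
on `U`, and an automorphism `s` of order three induced by `g` with `g² + g + 1 = 0`: then `s`
is trivial modulo `Z`.
-/

set_option autoImplicit false

namespace Cfsg.Agent.Lib.FpfSymThree

open Module
open scoped commutatorElement

variable {F : Type*} [Group F] [Finite F] {k U : Type*} [Field k] [AddCommGroup U] [Module k U]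

theorem eq_of_sq_eq_sq {Q : Type*} [CommGroup Q] [Finite Q] {n : ℕ}
    (hn : (Nat.card Q).Coprime n) {a b : Q} (h : a ^ n = b ^ n) : a = b := by
  have h1 : (a * b⁻¹) ^ n = 1 := by rw [mul_pow, inv_pow, h, mul_inv_cancel]
  have h2 : a * b⁻¹ = 1 := orderOf_eq_one_iff.mp (Nat.eq_one_of_dvd_coprimes hn
    (orderOf_dvd_natCard _) (orderOf_dvd_of_pow_eq_one h1))
  exact mul_inv_eq_one.mp h2

/-- The order-three lemma. -/
theorem inv_mul_apply_mem [Nontrivial U] (R : F →* Module.End k U) (g : Module.End k U)
    (s : MulAut F) (hs : ∀ x, s (s (s x)) = x) (hgR : ∀ x, g * R x = R (s x) * g)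
    (hg : g * g + g + 1 = 0) {c : k} (hc : c * c + c + 1 = 0) (h3 : (3 : k) ≠ 0)
    (Z : Subgroup F) [Z.Normal] (hsZ : ∀ z ∈ Z, s z = z) (hcomm : ∀ x y : F, ⁅x, y⁆ ∈ Z)
    (hscal : ∀ z ∈ Z, ∃ a : k, R z = a • 1)
    (hnd : ∀ u : F, u ∉ Z → ∃ y : F, R ⁅y, u⁆ ≠ 1) (hcop : (Nat.card F).Coprime 6) (x : F) :
    x⁻¹ * s x ∈ Z := by
  classical
  -- conjugation on endomorphisms and its joint eigenfunctions
  let f : F → Module.End k (Module.End k U) := fun y =>
    LinearMap.mulLeft k (R y) ∘ₗ LinearMap.mulRight k (R y⁻¹)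
  have hf : ∀ y M, f y M = R y * (M * R y⁻¹) := fun _ _ => rfl
  choose a ha using fun u y => hscal ⁅y, u⁆ (hcomm y u)
  have hmem : ∀ u, R u ∈ jointEigen f (a u) := fun u y => by
    rw [hf, ← map_mul, ← map_mul,
      show y * (u * y⁻¹) = ⁅y, u⁆ * u by rw [commutatorElement_def]; group, map_mul, ha,
      smul_mul_assoc, one_mul]
  have hunit : ∀ u, R u ≠ 0 := fun u h => by
    have h1 : R u * R u⁻¹ = 1 := by rw [← map_mul, mul_inv_cancel, map_one]
    rw [h, zero_mul] at h1
    exact zero_ne_one h1
  have hsep : ∀ u v, a u = a v → (u : F ⧸ Z) = v := by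
    intro u v huv
    rw [QuotientGroup.eq]
    by_contra hw
    obtain ⟨y, hy⟩ := hnd _ hw
    apply hy
    obtain ⟨b, hb⟩ := hscal _ (hcomm y (u⁻¹ * v))
    have hcen : R u * R ⁅y, u⁻¹ * v⁆ = R ⁅y, u⁻¹ * v⁆ * R u := by
      rw [hb, mul_smul_comm, smul_mul_assoc, one_mul, mul_one]
    have h1 : R ⁅y, v⁆ = R ⁅y, u⁆ * (R u * R ⁅y, u⁻¹ * v⁆ * R u⁻¹) := by
      rw [← map_mul, ← map_mul, ← map_mul]
      congr 1
      simp only [commutatorElement_def]
      group
    rw [hcen, mul_assoc (R ⁅y, u⁻¹ * v⁆), ← map_mul R u, mul_inv_cancel, map_one, mul_one, ha, ha,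
      ← huv] at h1
    have h2 := congrArg (fun M => R ⁅y, u⁆⁻¹ * M) h1
    simp only [← ha, ← mul_assoc, ← map_mul, inv_mul_cancel, map_one, one_mul] at h2
    exact h2.symm
  -- the quotient is abelian
  letI : CommGroup (F ⧸ Z) :=
    { (inferInstance : Group (F ⧸ Z)) with
      mul_comm := fun p q => by
        induction p using QuotientGroup.induction_on with
        | H u =>
          induction q using QuotientGroup.induction_on with
          | H v =>
            rw [← QuotientGroup.mk_mul, ← QuotientGroup.mk_mul, QuotientGroup.eq]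
            have := hcomm v⁻¹ u⁻¹
            rw [commutatorElement_def, inv_inv, inv_inv] at this
            convert this using 1
            group }
  have hsq : ∀ p q : F ⧸ Z, p ^ 2 = q ^ 2 → p = q := fun p q =>
    eq_of_sq_eq_sq (Nat.Coprime.coprime_dvd_right (by norm_num)
      (hcop.coprime_dvd_left (Subgroup.card_quotient_dvd_card Z)))
  have hcube : ∀ p q : F ⧸ Z, p ^ 3 = q ^ 3 → p = q := fun p q =>
    eq_of_sq_eq_sq (Nat.Coprime.coprime_dvd_right (by norm_num)
      (hcop.coprime_dvd_left (Subgroup.card_quotient_dvd_card Z)))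
  let sbar : F ⧸ Z →* F ⧸ Z := QuotientGroup.map Z Z s.toMonoidHom fun z hz => by
    show s z ∈ Z
    rw [hsZ z hz]; exact hz
  have hsbar : ∀ u : F, sbar u = (s u : F) := fun _ => rfl
  by_contra hx
  set y := s x with hy
  set z := s y with hz
  have hab : (x : F ⧸ Z) ≠ y := fun h => hx (QuotientGroup.eq.mp h)
  have hca : sbar (z : F ⧸ Z) = x := by rw [hsbar, hz, hy, hs]
  have hac : (x : F ⧸ Z) ≠ z := fun h => hab (by
    have := congrArg sbar h
    rw [hca, hsbar, ← hy] at this
    exact this.symm)
  -- a nilpotent combination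
  set X := R x + c • R y + (c * c) • R z with hX
  have hc3 : c * (c * c) = 1 := by linear_combination (c - 1) * hc
  have hgX : ∀ v, g (X v) = (c * c) • X (g v) := by
    intro v
    have h : g * X = (c * c) • (X * g) := by
      rw [hX, mul_add, mul_add, mul_smul_comm, mul_smul_comm, hgR, hgR, hgR, ← hy, ← hz,
        show s z = x by rw [hz, hy, hs], add_mul, add_mul, smul_mul_assoc, smul_mul_assoc,
        smul_add, smul_add, smul_smul, smul_smul]
      rw [show c * c * c = 1 by rw [mul_assoc]; exact hc3,
        show c * c * (c * c) = c by linear_combination c * hc3, one_smul]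
      abel
    simpa using LinearMap.congr_fun h v
  have hnofix : ∀ v, g v = v → v = 0 := by
    intro v hv
    have h := LinearMap.congr_fun hg v
    simp only [LinearMap.add_apply, Module.End.mul_apply, Module.End.one_apply, hv,
      LinearMap.zero_apply] at h
    have h' : (3 : k) • v = 0 := by
      rw [show (3 : k) = 1 + 1 + 1 by norm_num, add_smul, add_smul, one_smul]; exact h
    exact (smul_eq_zero.mp h').resolve_left h3
  have hA : ∀ v, g v = c • v → X v = 0 := fun v hv => hnofix _ (by
    rw [hgX, hv, map_smul, smul_smul, show c * c * c = 1 by rw [mul_assoc]; exact hc3, one_smul])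
  have hB : ∀ v, g v = (c * c) • v → X (X v) = 0 := fun v hv => hA _ (by
    rw [hgX, hv, map_smul, smul_smul, show c * c * (c * c) = c by linear_combination c * hc3])
  have hc21 : c * c - c ≠ 0 := by
    intro h
    have hcc : c * c = c := sub_eq_zero.mp h
    rcases eq_or_ne c 0 with h0 | h0
    · rw [h0] at hc; norm_num at hc
    · have h1 : c = 1 := mul_right_cancel₀ h0 (hcc.trans (one_mul c).symm)
      rw [h1] at hc
      exact h3 (by linear_combination hc)
  have hXX : X * X = 0 := by
    refine LinearMap.ext fun v => ?_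
    have hgg : g (g v) = -g v - v := by
      have h := LinearMap.congr_fun hg v
      simp only [LinearMap.add_apply, Module.End.mul_apply, Module.End.one_apply,
        LinearMap.zero_apply] at h
      linear_combination (norm := module) h
    have hsum : c * c = -c - 1 := by linear_combination hc
    have h1 : g (g v - c • v) = (c * c) • (g v - c • v) := by
      rw [map_sub, map_smul, hgg, smul_sub, smul_smul,
        show c * c * c = 1 by rw [mul_assoc]; exact hc3, hsum]
      module
    have h2 : g (g v - (c * c) • v) = c • (g v - (c * c) • v) := by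
      rw [map_sub, map_smul, hgg, smul_sub, smul_smul, hc3, hsum]
      module
    have hv : (c * c - c) • v = (g v - c • v) - (g v - (c * c) • v) := by module
    have : (c * c - c) • X (X v) = 0 := by
      rw [← map_smul, ← map_smul, hv, map_sub, map_sub, hB _ h1, hA _ h2, map_zero, sub_zero]
    rw [Module.End.mul_apply, LinearMap.zero_apply]
    exact (smul_eq_zero.mp this).resolve_left hc21
  -- the coefficient of the class of `x²`
  set S : Submodule k (Module.End k U) := ⨆ (χ) (_ : χ ≠ a (x * x)), jointEigen f χ with hS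
  have hin : ∀ u : F, (u : F ⧸ Z) ≠ (x * x : F) → R u ∈ S := by
    intro u hu
    exact le_iSup₂ (f := fun χ (_ : χ ≠ a (x * x)) => jointEigen f χ) (a u)
      (fun h => hu (hsep _ _ h)) (hmem u)
  have hyy : ((y * y : F) : F ⧸ Z) ≠ (x * x : F) := fun h => by
    rw [QuotientGroup.mk_mul, QuotientGroup.mk_mul, ← pow_two, ← pow_two] at h
    exact hab (hsq _ _ h).symm
  have hzz : ((z * z : F) : F ⧸ Z) ≠ (x * x : F) := fun h => by
    rw [QuotientGroup.mk_mul, QuotientGroup.mk_mul, ← pow_two, ← pow_two] at h
    exact hac (hsq _ _ h).symm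
  have hxy : ((x * y : F) : F ⧸ Z) ≠ (x * x : F) := fun h => by
    rw [QuotientGroup.mk_mul, QuotientGroup.mk_mul, mul_right_inj] at h
    exact hab h.symm
  have hxz : ((x * z : F) : F ⧸ Z) ≠ (x * x : F) := fun h => by
    rw [QuotientGroup.mk_mul, QuotientGroup.mk_mul, mul_right_inj] at h
    exact hac h.symm
  have hyz : ((y * z : F) : F ⧸ Z) ≠ (x * x : F) := fun h => by
    rw [QuotientGroup.mk_mul, QuotientGroup.mk_mul] at h
    have h' := congrArg sbar h
    rw [map_mul, map_mul, hca, hsbar, hsbar, ← hy, ← hz] at h'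
    refine hab (hcube _ _ ?_)
    rw [pow_three, pow_three, ← h, ← h', mul_comm (z : F ⧸ Z) x]
    exact mul_left_comm (x : F ⧸ Z) y z
  have hswap : ∀ u v : F, ((u * v : F) : F ⧸ Z) = (v * u : F) := fun u v => by
    rw [QuotientGroup.mk_mul, QuotientGroup.mk_mul, mul_comm]
  have hexp : R (x * x) = -(c • R (x * y) + (c * c) • R (x * z) + c • R (y * x) +
      (c * c) • R (y * y) + (c * (c * c)) • R (y * z) + (c * c) • R (z * x) +
      (c * c * c) • R (z * y) + (c * c * (c * c)) • R (z * z)) := by
    have h := hXX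
    simp only [hX, mul_add, add_mul, smul_mul_assoc, mul_smul_comm, smul_add, smul_smul,
      ← map_mul] at h
    linear_combination (norm := module) h
  have hrest : R (x * x) ∈ S := by
    rw [hexp]
    refine S.neg_mem ?_
    repeat' apply S.add_mem
    all_goals refine S.smul_mem _ (hin _ ?_)
    all_goals first
      | assumption
      | (rw [hswap]; assumption)
  exact hunit (x * x) (Submodule.disjoint_def.mp (iSupIndep_jointEigen f (a (x * x))) _
    (hmem _) hrest)

end Cfsg.Agent.Lib.FpfSymThree
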