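import Cfsg.Agent.Lib.FpfSymThree.Subdirect
import Cfsg.Agent.Lib.FpfSymThree.OrderThree

/-!
# A faithful irreducible module for a solvable group with a fixed-point-free action of `S₃`

If `K` has order prime to six, `S₃` acts on `K` without nontrivial fixed points, `K` and `S₃`
act jointly irreducibly on a module without `S₃`-fixed vectors, and `K` is faithful, then `K` is
abelian.
-/

set_option autoImplicit false

namespace Cfsg.Agent.Lib.FpfSymThree

open Cfsg.Agent.Lib Module
open scoped commutatorElement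

variable {K : Type*} [Group K] [Finite K] {k W : Type*} [Field k] [AddCommGroup W] [Module k W]

/-- The hypotheses on the module. -/
structure IsFpfModule (φ : SymThree →* MulAut K) (ρ : K →* Module.End k W)
    (σ : SymThree →* Module.End k W) : Prop where
  compat : ∀ a x, σ a * ρ x = ρ (φ a x) * σ a
  irr : ∀ S : Submodule k W, (∀ x, ∀ v ∈ S, ρ x v ∈ S) → (∀ a, ∀ v ∈ S, σ a v ∈ S) → S = ⊥ ∨ S = ⊤
  sum_eq : ∀ v, ∑ a, σ a v = 0
  inj : Function.Injective ρ
  fpf : ∀ x, (∀ a, φ a x = x) → x = 1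
  cop : (Nat.card K).Coprime 6
  two_ne : (2 : k) ≠ 0
  three_ne : (3 : k) ≠ 0

variable {φ : SymThree →* MulAut K} {ρ : K →* Module.End k W} {σ : SymThree →* Module.End k W}

omit [Finite K] in
theorem rho_ne_zero [Nontrivial W] (ρ : K →* Module.End k W) (x : K) {v : W} (hv : v ≠ 0) :
    ρ x v ≠ 0 := fun h => hv (by
  have h1 := congrArg (ρ x⁻¹) h
  rwa [← Module.End.mul_apply, ← map_mul, inv_mul_cancel, map_one, Module.End.one_apply,
    map_zero] at h1)

theorem eq_one_of_pow_six {G : Type*} [Group G] [Finite G] (h : (Nat.card G).Coprime 6) {x : G}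
    {n : ℕ} (hn : n ∣ 6) (hx : x ^ n = 1) : x = 1 :=
  orderOf_eq_one_iff.mp (Nat.eq_one_of_dvd_coprimes h (orderOf_dvd_natCard x)
    ((orderOf_dvd_of_pow_eq_one hx).trans hn))

namespace IsFpfModule

variable (hyp : IsFpfModule φ ρ σ)
include hyp

/-- A nonzero subspace invariant under both groups is everything. -/
theorem eq_top {S : Submodule k W} (h1 : ∀ x, ∀ v ∈ S, ρ x v ∈ S)
    (h2 : ∀ a, ∀ v ∈ S, σ a v ∈ S) (h0 : S ≠ ⊥) : S = ⊤ :=
  (hyp.irr S h1 h2).resolve_left h0

/-- `C_K(s)` is inverted by each transposition. -/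
theorem apply_flip_eq_inv (i : Fin 3) {x : K} (hx : φ rot x = x) : φ (flip i) x = x⁻¹ := by
  let C : Subgroup K :=
    { carrier := {x | φ rot x = x}
      one_mem' := map_one _
      mul_mem' := fun {a b} (ha : φ rot a = a) (hb : φ rot b = b) => by
        show φ rot (a * b) = a * b
        rw [map_mul, ha, hb]
      inv_mem' := fun {a} (ha : φ rot a = a) => by
        show φ rot a⁻¹ = a⁻¹
        rw [map_inv, ha] }
  have hflip : ∀ y ∈ C, φ (flip i) y ∈ C := fun y (hy : φ rot y = y) => by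
    show φ rot (φ (flip i) y) = φ (flip i) y
    rw [← MulAut.mul_apply, ← map_mul, ← flip_mul_rot_sq, map_mul, MulAut.mul_apply, map_mul,
      MulAut.mul_apply, hy, hy]
  let f : C → C := fun y => ⟨y.1⁻¹ * φ (flip i) y.1, C.mul_mem (C.inv_mem y.2) (hflip _ y.2)⟩
  have hinj : Function.Injective f := by
    intro a b hab
    have h : a.1⁻¹ * φ (flip i) a.1 = b.1⁻¹ * φ (flip i) b.1 := congrArg Subtype.val hab
    have hfix : φ (flip i) (b.1 * a.1⁻¹) = b.1 * a.1⁻¹ := by
      rw [map_mul, map_inv, show φ (flip i) a.1 = a.1 * b.1⁻¹ * φ (flip i) b.1 by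
        rw [mul_assoc, ← h, mul_inv_cancel_left]]
      group
    have h1 := hyp.fpf _ (fixed_of_rot_flip φ (C.mul_mem b.2 (C.inv_mem a.2)) hfix)
    exact Subtype.ext (mul_inv_eq_one.mp h1).symm
  obtain ⟨y, hy⟩ := Finite.injective_iff_surjective.mp hinj ⟨x, hx⟩
  have hy' : x = y.1⁻¹ * φ (flip i) y.1 := (congrArg Subtype.val hy).symm
  have htt : φ (flip i) (φ (flip i) y.1) = y.1 := by
    rw [← MulAut.mul_apply, ← map_mul, flip_mul_self, map_one]; rfl
  rw [hy', map_mul, map_inv, htt]
  group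

variable [IsAlgClosed k] [FiniteDimensional k W] [Nontrivial W] [Group.IsSolvable K]

/-- For an invariant abelian normal subgroup, either `K` is abelian or the three-cycle fixes the
subgroup. -/
theorem rot_fixes_or_comm (T : Subgroup K) [T.Normal] (hT : ∀ a, ∀ t ∈ T, φ a t ∈ T)
    (hTc : ∀ t ∈ T, ∀ u ∈ T, t * u = u * t) :
    (∀ x y : K, x * y = y * x) ∨ ∀ t ∈ T, φ rot t = t := by
  classical
  by_cases hTbot : T = ⊥
  · exact Or.inr fun t ht => by rw [Subgroup.mem_bot.mp (show t ∈ (⊥ : Subgroup K) from hTbot ▸ ht), map_one]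
  let ψ : SymThree →* MulAut T := Wielandt.restrictAct φ T hT
  let cj : K →* MulAut T := MulAut.conjNormal
  let E : (T → k) → Submodule k W := jointEigen fun t : T => ρ t
  have hcomp : ∀ a x, ψ a * cj x = cj (φ a x) * ψ a := fun a x =>
    MulEquiv.ext fun t => Subtype.ext (by
      show φ a (x * t * x⁻¹) = φ a x * φ a t * (φ a x)⁻¹
      rw [map_mul, map_mul, map_inv])
  have hEk : ∀ x χ, ∀ v ∈ E χ, ρ x v ∈ E (pullback (cj x) χ) := fun x χ v hv =>
    apply_mem_jointEigen (fun t => by
      rw [← map_mul, ← map_mul]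
      congr 1
      show x * t = x * t * x⁻¹ * x
      group) hv
  have hEa : ∀ a χ, ∀ v ∈ E χ, σ a v ∈ E (pullback (ψ a) χ) := fun a χ v hv =>
    apply_mem_jointEigen (α := ψ a) (fun t => hyp.compat a t) hv
  have hindep : iSupIndep E := iSupIndep_jointEigen _
  -- every weight has a nontrivial stabiliser
  have hL1 : ∀ χ, E χ ≠ ⊥ → ∃ a, a ≠ 1 ∧ pullback (ψ a) χ = χ := by
    intro χ hχ
    by_contra hno
    push Not at hno
    obtain ⟨v, hv, hv0⟩ := Submodule.exists_mem_ne_zero_of_ne_bot hχ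
    have hinj : Function.Injective fun a => pullback (ψ a) χ := by
      intro a b hab
      by_contra hne
      refine hno (a⁻¹ * b) (fun h => hne (inv_mul_eq_one.mp h)) ?_
      rw [map_mul, pullback_mul]
      simp only at hab
      rw [← hab, ← pullback_mul, ← map_mul, inv_mul_cancel, map_one, pullback_one]
    have h := (iSupIndep_iff_finsetSum_eq_zero_imp_eq_zero _).mp (hindep.comp hinj)
      Finset.univ (fun a => σ a v) (fun a _ => hEa a χ v hv) (hyp.sum_eq v) 1 (Finset.mem_univ _)
    rw [map_one, Module.End.one_apply] at h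
    exact hv0 h
  -- no orbit of weights is stable under everything
  have hL2 : ∀ χ x a b, E χ ≠ ⊥ → a ≠ 1 → b ≠ 1 → b ≠ a → b ≠ a⁻¹ →
      pullback (ψ a) χ = χ → pullback (ψ b) (pullback (cj x) χ) = pullback (cj x) χ → False := by
    intro χ₀ x a b hχ₀ ha1 hb1 hba hba' hafix hbfix
    let S : Subgroup SymThree :=
      { carrier := {a | ∃ z, pullback (ψ a) χ₀ = pullback (cj z) χ₀}
        one_mem' := ⟨1, by simp [pullback_one]⟩
        mul_mem' := fun {a b} ⟨z, hz⟩ ⟨w, hw⟩ => ⟨φ a w * z, by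
          rw [map_mul, pullback_mul, hw, ← pullback_mul, hcomp, pullback_mul, hz, ← pullback_mul,
            ← map_mul]⟩
        inv_mem' := fun {a} ⟨z, hz⟩ => ⟨(φ a⁻¹ z)⁻¹, by
          have h := congrArg (pullback (ψ a⁻¹)) hz
          rw [← pullback_mul, ← map_mul, inv_mul_cancel, map_one, pullback_one, ← pullback_mul,
            hcomp, pullback_mul] at h
          conv_rhs => rw [h]
          rw [← pullback_mul, ← map_mul, inv_mul_cancel, map_one, pullback_one]⟩ }
    have haS : a ∈ S := ⟨1, by rw [hafix, map_one, pullback_one]⟩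
    have hbS : b ∈ S := ⟨(φ b x)⁻¹ * x, by
      have h := congrArg (pullback (cj (φ b x)⁻¹)) hbfix
      rw [← pullback_mul (ψ b), hcomp, pullback_mul, ← pullback_mul, ← map_mul, inv_mul_cancel,
        map_one, pullback_one, ← pullback_mul, ← map_mul] at h
      exact h⟩
    have hS : S = ⊤ := eq_top_of_two_mem haS hbS ha1 hb1 hba hba'
    let X := {χ : T → k // ∃ z, χ = pullback (cj z) χ₀}
    letI : MulAction K X :=
      { smul := fun z χ => ⟨pullback (cj z) χ.1, by
          obtain ⟨w, hw⟩ := χ.2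
          exact ⟨z * w, by rw [hw, map_mul, pullback_mul]⟩⟩
        one_smul := fun χ => Subtype.ext (by
          show pullback (cj 1) χ.1 = χ.1
          rw [map_one, pullback_one])
        mul_smul := fun z w χ => Subtype.ext (by
          show pullback (cj (z * w)) χ.1 = pullback (cj z) (pullback (cj w) χ.1)
          rw [map_mul, pullback_mul]) }
    letI : MulAction SymThree X :=
      { smul := fun c χ => ⟨pullback (ψ c) χ.1, by
          obtain ⟨w, hw⟩ := χ.2
          obtain ⟨z, hz⟩ : c ∈ S := hS ▸ Subgroup.mem_top c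
          exact ⟨φ c w * z, by
            rw [hw, ← pullback_mul, hcomp, pullback_mul, hz, ← pullback_mul, ← map_mul]⟩⟩
        one_smul := fun χ => Subtype.ext (by
          show pullback (ψ 1) χ.1 = χ.1
          rw [map_one, pullback_one])
        mul_smul := fun z w χ => Subtype.ext (by
          show pullback (ψ (z * w)) χ.1 = pullback (ψ z) (pullback (ψ w) χ.1)
          rw [map_mul, pullback_mul]) }
    haveI : Nonempty X := ⟨⟨χ₀, 1, by rw [map_one, pullback_one]⟩⟩
    have htrans : MulAction.IsPretransitive K X := ⟨by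
      rintro ⟨_, z, rfl⟩ ⟨_, w, rfl⟩
      refine ⟨w * z⁻¹, Subtype.ext ?_⟩
      show pullback (cj (w * z⁻¹)) (pullback (cj z) χ₀) = pullback (cj w) χ₀
      rw [← pullback_mul, ← map_mul, inv_mul_cancel_right]⟩
    obtain ⟨⟨χ, z, hz⟩, hfix⟩ := Coprime.exists_fixed_point φ (X := X)
      (fun c z χ => Subtype.ext (by
        show pullback (ψ c) (pullback (cj z) χ.1) = pullback (cj (φ c z)) (pullback (ψ c) χ.1)
        rw [← pullback_mul, ← pullback_mul, hcomp]))
      (by rw [natCard_symThree]; exact hyp.cop.symm) (Or.inr inferInstance) htrans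
    have hχfix : ∀ c t, χ (ψ c t) = χ t := by
      intro c t
      have h := congrFun (congrArg Subtype.val (hfix c)) (ψ c t)
      have h' : χ ((ψ c).symm (ψ c t)) = χ (ψ c t) := h
      rw [MulEquiv.symm_apply_apply] at h'
      exact h'.symm
    obtain ⟨v, hv, hv0⟩ : ∃ v ∈ E χ, v ≠ 0 := by
      obtain ⟨v, hv, hv0⟩ := Submodule.exists_mem_ne_zero_of_ne_bot hχ₀
      exact ⟨ρ z v, hz ▸ hEk z χ₀ v hv, rho_ne_zero ρ z hv0⟩
    letI : CommGroup T :=
      { T.toGroup with mul_comm := fun t u => Subtype.ext (hTc t t.2 u u.2) }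
    have hmul : ∀ t u : T, χ (t * u) = χ t * χ u := fun t u => by
      have h : ρ ((t * u : T) : K) v = χ (t * u) • v := hv (t * u)
      rw [Subgroup.coe_mul, map_mul, Module.End.mul_apply, hv u, map_smul, hv t, smul_smul] at h
      have h' := smul_left_injective k hv0 h
      rw [← h', mul_comm]
    have hone : χ 1 = 1 := by
      have h : ρ ((1 : T) : K) v = χ 1 • v := hv 1
      rw [Subgroup.coe_one, map_one, Module.End.one_apply] at h
      exact (smul_left_injective k hv0 ((one_smul k v).trans h)).symm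
    let χh : T →* k := { toFun := χ, map_one' := hone, map_mul' := hmul }
    have hone' : ∀ t : T, χ t = 1 := by
      intro t
      have hp : ∏ c : SymThree, ψ c t = 1 := by
        refine Subtype.ext (hyp.fpf _ fun d => ?_)
        have h : ψ d (∏ c : SymThree, ψ c t) = ∏ c : SymThree, ψ c t := by
          rw [map_prod]
          exact Fintype.prod_equiv (Equiv.mulLeft d) _ _ fun c => by
            rw [Equiv.coe_mulLeft, map_mul, MulAut.mul_apply]
        exact congrArg Subtype.val h
      have h6 : χ t ^ 6 = 1 := by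
        have h : χh (∏ c : SymThree, ψ c t) = χh 1 := by rw [hp]
        rw [map_prod, map_one] at h
        have h' : ∏ c : SymThree, χh t = (1 : k) := by
          rw [← h]
          exact Finset.prod_congr rfl fun c _ => (hχfix c t).symm
        rw [Finset.prod_const, Finset.card_univ, ← Nat.card_eq_fintype_card,
          natCard_symThree] at h'
        exact h'
      have ho : χ t ^ Nat.card T = 1 := by
        show χh t ^ Nat.card T = 1
        rw [← map_pow, pow_card_eq_one', map_one]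
      have hg : (Nat.card T).Coprime 6 :=
        hyp.cop.coprime_dvd_left (Subgroup.card_subgroup_dvd_card T)
      have := pow_gcd_eq_one.mpr ⟨ho, h6⟩
      rwa [hg, pow_one] at this
    have hχ1 : χ = fun _ => 1 := funext hone'
    have htop : E χ = ⊤ := by
      refine hyp.eq_top (fun z v hv => ?_) (fun c v hv => ?_) fun h => by
        rw [h, Submodule.mem_bot] at hv
        exact hv0 hv
      · have h := hEk z χ v hv
        rw [hχ1] at h ⊢
        exact h
      · have h := hEa c χ v hv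
        rw [hχ1] at h ⊢
        exact h
    refine hTbot (T.eq_bot_iff_forall.mpr fun t ht => hyp.inj (LinearMap.ext fun w => ?_))
    have hw : w ∈ E χ := htop ▸ Submodule.mem_top
    rw [hw ⟨t, ht⟩, hone', one_smul, map_one, Module.End.one_apply]
  have hρinv : ∀ x, ∀ χ, E χ ≠ ⊥ → E (pullback (cj x) χ) ≠ ⊥ := fun x χ hχ h => by
    obtain ⟨v, hv, hv0⟩ := Submodule.exists_mem_ne_zero_of_ne_bot hχ
    have h' := hEk x χ v hv
    rw [h, Submodule.mem_bot] at h'
    exact rho_ne_zero ρ x hv0 h'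
  have hσinv : ∀ a, ∀ χ, E χ ≠ ⊥ → E (pullback (ψ a) χ) ≠ ⊥ := fun a χ hχ h => by
    obtain ⟨v, hv, hv0⟩ := Submodule.exists_mem_ne_zero_of_ne_bot hχ
    have h' := hEa a χ v hv
    rw [h, Submodule.mem_bot] at h'
    exact rho_ne_zero σ a hv0 h'
  by_cases hII : ∃ χ, E χ ≠ ⊥ ∧ pullback (ψ rot) χ = χ
  · -- the three-cycle fixes `T`
    right
    obtain ⟨χ₁, hχ₁, hs₁⟩ := hII
    set Λ : Set (T → k) := {χ | E χ ≠ ⊥ ∧ pullback (ψ rot) χ = χ}
    have hrotinv : ∀ χ : T → k, pullback (ψ rot⁻¹) χ = χ ↔ pullback (ψ rot) χ = χ := fun χ => by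
      constructor <;> intro h
      · conv_lhs => rw [← h]
        rw [← pullback_mul, ← map_mul, mul_inv_cancel, map_one, pullback_one]
      · conv_lhs => rw [← h]
        rw [← pullback_mul, ← map_mul, inv_mul_cancel, map_one, pullback_one]
    have hΛk : ∀ x, ∀ χ ∈ Λ, pullback (cj x) χ ∈ Λ := by
      rintro x χ ⟨hχ, hs⟩
      refine ⟨hρinv x χ hχ, ?_⟩
      obtain ⟨b, hb1, hb⟩ := hL1 _ (hρinv x χ hχ)
      by_cases hbs : b = rot
      · rwa [← hbs]
      by_cases hbs' : b = rot⁻¹
      · rw [hbs'] at hb; exact (hrotinv _).mp hb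
      exact (hL2 χ x rot b hχ rot_ne_one hb1 hbs hbs' hs hb).elim
    have hΛa : ∀ a, ∀ χ ∈ Λ, pullback (ψ a) χ ∈ Λ := by
      rintro a χ ⟨hχ, hs⟩
      refine ⟨hσinv a χ hχ, ?_⟩
      rw [← pullback_mul, ← map_mul, show rot * a = a * (a⁻¹ * rot * a) by group, map_mul,
        pullback_mul]
      rcases mul_rot_cases a with h | h <;> rw [h]
      · rw [hs]
      · rw [(hrotinv χ).mpr hs]
    set U := ⨆ χ ∈ Λ, E χ with hU
    have hUtop : U = ⊤ := by
      refine hyp.eq_top (fun x v hv => ?_) (fun a v hv => ?_) fun h => hχ₁ ?_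
      · have : U ≤ U.comap (ρ x) := iSup₂_le fun χ hχ w hw =>
          le_iSup₂ (f := fun χ (_ : χ ∈ Λ) => E χ) _ (hΛk x χ hχ) (hEk x χ w hw)
        exact this hv
      · have : U ≤ U.comap (σ a) := iSup₂_le fun χ hχ w hw =>
          le_iSup₂ (f := fun χ (_ : χ ∈ Λ) => E χ) _ (hΛa a χ hχ) (hEa a χ w hw)
        exact this hv
      · exact eq_bot_iff.mpr (h ▸ le_iSup₂ (f := fun χ (_ : χ ∈ Λ) => E χ) χ₁ ⟨hχ₁, hs₁⟩)
    intro t ht
    refine hyp.inj (LinearMap.ext fun v => ?_)
    have hle : U ≤ LinearMap.eqLocus (ρ (φ rot t)) (ρ t) := by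
      refine iSup₂_le fun χ hχ w hw => ?_
      show ρ (φ rot t) w = ρ t w
      have h1 := hw (ψ rot ⟨t, ht⟩)
      have h2 := hw ⟨t, ht⟩
      have h3 : χ (ψ rot ⟨t, ht⟩) = χ ⟨t, ht⟩ := by
        conv_lhs => rw [← hχ.2]
        show χ ((ψ rot).symm (ψ rot ⟨t, ht⟩)) = _
        rw [MulEquiv.symm_apply_apply]
      rw [h3, ← h2] at h1
      exact h1
    exact hle (hUtop ▸ Submodule.mem_top)
  · -- each weight is fixed by exactly one transposition
    left
    have hnorot : ∀ χ, E χ ≠ ⊥ → pullback (ψ rot) χ ≠ χ := fun χ hχ h => hII ⟨χ, hχ, h⟩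
    have hflipex : ∀ χ, E χ ≠ ⊥ → ∃ i, pullback (ψ (flip i)) χ = χ := by
      intro χ hχ
      obtain ⟨a, ha1, ha⟩ := hL1 χ hχ
      rcases symThree_cases a with rfl | rfl | rfl | ⟨i, rfl⟩
      · exact (ha1 rfl).elim
      · exact (hnorot χ hχ ha).elim
      · refine (hnorot χ hχ ?_).elim
        conv_lhs => rw [← ha]
        rw [← pullback_mul, ← map_mul, mul_inv_cancel, map_one, pullback_one]
      · exact ⟨i, ha⟩
    let Λ : Fin 3 → Set (T → k) := fun i => {χ | E χ ≠ ⊥ ∧ pullback (ψ (flip i)) χ = χ}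
    have huniq : ∀ χ x i j, χ ∈ Λ i → pullback (cj x) χ ∈ Λ j → i = j := by
      rintro χ x i j ⟨hχ, hi⟩ ⟨-, hj⟩
      by_contra hij
      exact hL2 χ x (flip i) (flip j) hχ (flip_ne_one i) (flip_ne_one j)
        (flip_ne_flip i j (Ne.symm hij)).1 (flip_ne_flip i j (Ne.symm hij)).2 hi hj
    have hΛdisj : ∀ i j χ, χ ∈ Λ i → χ ∈ Λ j → i = j := fun i j χ hi hj =>
      huniq χ 1 i j hi (by rwa [map_one, pullback_one])
    have hΛk : ∀ x i, ∀ χ ∈ Λ i, pullback (cj x) χ ∈ Λ i := by
      intro x i χ hχ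
      obtain ⟨j, hj⟩ := hflipex _ (hρinv x χ hχ.1)
      have hj' : pullback (cj x) χ ∈ Λ j := ⟨hρinv x χ hχ.1, hj⟩
      exact huniq χ x i j hχ hj' ▸ hj'
    have hΛa : ∀ a i, ∀ χ ∈ Λ i, pullback (ψ a) χ ∈ Λ (a i) := by
      rintro a i χ ⟨hχ, hi⟩
      refine ⟨hσinv a χ hχ, ?_⟩
      rw [← pullback_mul, ← map_mul, ← conj_flip, map_mul, pullback_mul, hi]
    let V : Fin 3 → Submodule k W := fun i => ⨆ χ ∈ Λ i, E χ
    have hVk : ∀ x i, ∀ v ∈ V i, ρ x v ∈ V i := fun x i v hv => by
      have : V i ≤ (V i).comap (ρ x) := iSup₂_le fun χ hχ w hw =>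
        le_iSup₂ (f := fun χ (_ : χ ∈ Λ i) => E χ) _ (hΛk x i χ hχ) (hEk x χ w hw)
      exact this hv
    have hVa : ∀ a i, ∀ v ∈ V i, σ a v ∈ V (a i) := fun a i v hv => by
      have : V i ≤ (V (a i)).comap (σ a) := iSup₂_le fun χ hχ w hw =>
        le_iSup₂ (f := fun χ (_ : χ ∈ Λ (a i)) => E χ) _ (hΛa a i χ hχ) (hEa a χ w hw)
      exact this hv
    have hVtop : ⨆ i, V i = ⊤ := by
      refine hyp.eq_top (fun x v hv => ?_) (fun a v hv => ?_) fun h => ?_
      · have : ⨆ i, V i ≤ (⨆ i, V i).comap (ρ x) :=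
          iSup_le fun i w hw => le_iSup V i (hVk x i w hw)
        exact this hv
      · have : ⨆ i, V i ≤ (⨆ i, V i).comap (σ a) :=
          iSup_le fun i w hw => le_iSup V (a i) (hVa a i w hw)
        exact this hv
      · obtain ⟨χ, hχ⟩ := exists_jointEigen_ne_bot (fun t : T => ρ t)
          fun t u => by rw [← map_mul, ← map_mul, hTc t t.2 u u.2]
        obtain ⟨i, hi⟩ := hflipex χ hχ
        exact hχ (eq_bot_iff.mpr (h ▸
          (le_iSup₂ (f := fun χ (_ : χ ∈ Λ i) => E χ) χ ⟨hχ, hi⟩).trans (le_iSup V i)))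
    have hVindep : iSupIndep V := by
      intro i
      refine (hindep.disjoint_biSup_biSup
        (s := Λ i) (t := (Λ i)ᶜ) disjoint_compl_right).mono_right ?_
      refine iSup₂_le fun j hji => iSup₂_le fun χ hχ => ?_
      exact le_iSup₂ (f := fun χ (_ : χ ∈ (Λ i)ᶜ) => E χ) χ fun h => hji (hΛdisj j i χ hχ h)
    have hneg : ∀ i, ∀ v ∈ V i, σ (flip i) v = -v := by
      intro i v hv
      obtain ⟨hi0, hi1, hi2, hi3⟩ := flip_apply i
      have hfv : σ (flip i) v ∈ V i := by
        have h := hVa (flip i) i v hv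
        rwa [hi0] at h
      set w := v + σ (flip i) v with hwdef
      have hw : w ∈ V i := (V i).add_mem hv hfv
      have hfix : σ (flip i) w = w := by
        rw [hwdef, map_add, ← Module.End.mul_apply, ← map_mul, flip_mul_self, map_one,
          Module.End.one_apply, add_comm]
      have h := hyp.sum_eq w
      rw [sum_symThree _ i, map_mul _ rot (flip i), map_mul _ (rot * rot) (flip i),
        Module.End.mul_apply, Module.End.mul_apply, hfix, map_one, Module.End.one_apply] at h
      have h2 : (2 : k) • (w + σ rot w + σ (rot * rot) w) = 0 := by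
        rw [two_smul]; rw [← h]; abel
      have h3 := (smul_eq_zero.mp h2).resolve_left hyp.two_ne
      have hrest : σ rot w + σ (rot * rot) w ∈ ⨆ (j) (_ : j ≠ i), V j := by
        refine Submodule.add_mem _ ?_ ?_
        · exact le_iSup₂ (f := fun j (_ : j ≠ i) => V j) (rot i)
            ((by decide +kernel : ∀ i : Fin 3, rot i ≠ i) i) (hVa rot i w hw)
        · exact le_iSup₂ (f := fun j (_ : j ≠ i) => V j) ((rot * rot) i)
            ((by decide +kernel : ∀ i : Fin 3, (rot * rot) i ≠ i) i) (hVa _ i w hw)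
      have hw0 : w = 0 := by
        refine Submodule.disjoint_def.mp (hVindep i) w hw ?_
        rw [add_assoc, add_eq_zero_iff_eq_neg] at h3
        rw [h3]
        exact Submodule.neg_mem _ hrest
      rwa [hwdef, add_eq_zero_iff_neg_eq, eq_comm] at hw0
    let N : Fin 3 → Subgroup K := fun i =>
      { carrier := {x | ∀ v ∈ V i, ρ x v = v}
        one_mem' := fun v _ => by rw [map_one]; rfl
        mul_mem' := fun {x y} hx hy v hv => by rw [map_mul, Module.End.mul_apply, hy v hv, hx v hv]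
        inv_mem' := fun {x} hx v hv => by
          have h := congrArg (ρ x⁻¹) (hx v hv)
          rw [← Module.End.mul_apply, ← map_mul, inv_mul_cancel, map_one,
            Module.End.one_apply] at h
          exact h.symm }
    haveI hNn : ∀ i, (N i).Normal := fun i => ⟨fun n hn g v hv => by
      rw [map_mul, map_mul, Module.End.mul_apply, Module.End.mul_apply, hn _ (hVk _ i v hv),
        ← Module.End.mul_apply, ← map_mul, mul_inv_cancel, map_one]
      rfl⟩
    refine commute_of_subdirect φ hyp.cop hyp.fpf N (fun a i x hx => ?_) (fun x hx => ?_)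
      (fun i x v hv => ?_)
    · intro v hv
      have hv' : σ a⁻¹ v ∈ V i := by
        have h := hVa a⁻¹ (a i) v hv
        simpa using h
      have h : ρ (φ a x) (σ a (σ a⁻¹ v)) = σ a (σ a⁻¹ v) := by
        rw [← Module.End.mul_apply (ρ (φ a x)), ← hyp.compat, Module.End.mul_apply, hx _ hv']
      rwa [← Module.End.mul_apply (σ a) (σ a⁻¹), ← map_mul, mul_inv_cancel, map_one] at h
    · refine hyp.inj (LinearMap.ext fun v => ?_)
      have hle : ⨆ i, V i ≤ LinearMap.eqLocus (ρ x) (1 : Module.End k W) :=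
        iSup_le fun i w hw => hx i w hw
      rw [map_one]
      exact hle (hVtop ▸ Submodule.mem_top)
    · have h := LinearMap.congr_fun (hyp.compat (flip i) x) v
      rw [Module.End.mul_apply, Module.End.mul_apply, hneg i _ (hVk x i v hv), hneg i v hv,
        map_neg, neg_inj] at h
      rw [map_mul, Module.End.mul_apply, ← h, ← Module.End.mul_apply, ← map_mul, inv_mul_cancel,
        map_one]
      rfl

/-- The module theorem: `K` is abelian. -/
theorem comm (x y : K) : x * y = y * x := by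
  classical
  revert x y
  by_contra hnc
  -- invariant abelian normal subgroups are central
  have hcentral : ∀ T : Subgroup K, T.Normal → (∀ a, ∀ t ∈ T, φ a t ∈ T) →
      (∀ t ∈ T, ∀ u ∈ T, t * u = u * t) → T ≤ Subgroup.center K := by
    intro T hTn hT hTc t ht
    haveI := hTn
    have hs : ∀ t ∈ T, φ rot t = t := (hyp.rot_fixes_or_comm T hT hTc).resolve_left hnc
    set C := Subgroup.centralizer (T : Set K) with hC
    have hCinv : ∀ a, ∀ c ∈ C, φ a c ∈ C := by
      intro a c hc
      rw [hC, Subgroup.mem_centralizer_iff] at hc ⊢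
      intro u hu
      have h := congrArg (φ a) (hc _ (hT a⁻¹ u hu))
      rw [map_mul, map_mul, map_inv, MulAut.apply_inv_self] at h
      exact h
    rw [Subgroup.mem_center_iff]
    intro z
    have hmod : ∀ h ∈ Subgroup.zpowers rot, z⁻¹ * φ h z ∈ C := by
      intro h hh
      refine ((mem_trivialMod φ).mp
        ((Subgroup.zpowers_le (H := trivialMod φ C hCinv)).mpr ?_ hh)) z
      intro w
      rw [hC, Subgroup.mem_centralizer_iff]
      intro u hu
      have h1 := hs _ (hTn.conj_mem u hu w)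
      rw [map_mul, map_mul, map_inv, hs u hu] at h1
      calc u * (w⁻¹ * φ rot w) = w⁻¹ * (w * u * w⁻¹) * φ rot w := by group
        _ = w⁻¹ * φ rot w * u := by rw [← h1]; group
    obtain ⟨v, hv, hvz⟩ := exists_fixed_of_mod φ
      (by rw [natCard_symThree]; exact hyp.cop.symm) C hCinv (Subgroup.zpowers rot) hmod
    have hvs : φ rot v = v := hv rot (Subgroup.mem_zpowers rot)
    have hinv : ∀ u ∈ T, φ (flip 0) u = u⁻¹ := fun u hu => hyp.apply_flip_eq_inv 0 (hs u hu)
    have hvt : v * t = t * v := by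
      have h1 := hinv _ (hTn.conj_mem t ht v)
      rw [map_mul, map_mul, map_inv, hyp.apply_flip_eq_inv 0 hvs, hinv t ht, inv_inv, mul_inv_rev,
        mul_inv_rev, inv_inv] at h1
      have h2 : (v ^ 2) * t⁻¹ = t⁻¹ * v ^ 2 := by
        calc v ^ 2 * t⁻¹ = v * (v * (t⁻¹ * v⁻¹)) * v := by rw [pow_two]; group
          _ = v * (v⁻¹ * t⁻¹ * v) * v := by rw [h1]
          _ = t⁻¹ * v ^ 2 := by rw [pow_two]; group
      have hcomm : Commute (v ^ 2) t := by
        have := (show Commute (v ^ 2) t⁻¹ from h2).inv_right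
        rwa [inv_inv] at this
      obtain ⟨m, hm⟩ := exists_pow_eq_self_of_coprime
        (x := v) (n := 2) (((hyp.cop.coprime_dvd_left (orderOf_dvd_natCard v)).coprime_dvd_right
          (by norm_num : 2 ∣ 6)).symm)
      rw [← hm]
      exact (hcomm.pow_left m).eq
    rw [hC, Subgroup.mem_centralizer_iff] at hvz
    calc z * t = v * ((v⁻¹ * z) * t) := by group
      _ = v * (t * (v⁻¹ * z)) := by rw [hvz t ht]
      _ = v * t * (v⁻¹ * z) := by group
      _ = t * v * (v⁻¹ * z) := by rw [hvt]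
      _ = t * z := by group
  set Z := Subgroup.center K with hZ
  -- a nonabelian invariant normal subgroup of class two
  obtain ⟨F, hFn, hFinv, hFc, hFnot⟩ : ∃ F : Subgroup K, F.Normal ∧
      (∀ a, ∀ f ∈ F, φ a f ∈ F) ∧ (∀ f ∈ F, ∀ g ∈ F, ⁅f, g⁆ ∈ Z) ∧ ¬ F ≤ Z := by
    obtain ⟨n, hn⟩ := (Group.isSolvable_def K).mp inferInstance
    have hex : ∃ n, derivedSeries K n ≤ Z := ⟨n, hn ▸ bot_le⟩
    obtain ⟨j, hj⟩ : ∃ j, Nat.find hex = j + 1 := by
      refine Nat.exists_eq_succ_of_ne_zero fun h0 => hnc fun x y => ?_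
      have h := Nat.find_spec hex
      rw [h0, derivedSeries_zero] at h
      exact (Subgroup.mem_center_iff.mp (h (Subgroup.mem_top x)) y).symm
    refine ⟨derivedSeries K j, inferInstance, fun a f hf => ?_, fun f hf g hg => ?_,
      Nat.find_min hex (by omega)⟩
    · exact (map_derivedSeries_eq (f := (φ a).toMonoidHom) (φ a).surjective j) ▸
        Subgroup.mem_map_of_mem (φ a).toMonoidHom hf
    · have h := Nat.find_spec hex
      rw [hj, derivedSeries_succ] at h
      exact h (Subgroup.commutator_mem_commutator hf hg)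
  haveI := hFn
  have hZinv : ∀ a, ∀ z ∈ Z, φ a z ∈ Z := fun a z hz => by
    rw [hZ, Subgroup.mem_center_iff] at hz ⊢
    intro g
    have h := congrArg (φ a) (hz (φ a⁻¹ g))
    rw [map_mul, map_mul, map_inv, MulAut.apply_inv_self] at h
    exact h
  have hZF : ∀ f ∈ F, (∀ g ∈ F, g * f = f * g) → f ∈ Z := by
    intro f hf hfc
    refine hcentral (F ⊓ Subgroup.centralizer (F : Set K)) inferInstance ?_ ?_
      ⟨hf, Subgroup.mem_centralizer_iff.mpr hfc⟩
    · rintro a u ⟨hu, hu'⟩
      refine ⟨hFinv a u hu, Subgroup.mem_centralizer_iff.mpr fun g hg => ?_⟩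
      have h := congrArg (φ a) (Subgroup.mem_centralizer_iff.mp hu' _ (hFinv a⁻¹ g hg))
      rw [map_mul, map_mul, map_inv, MulAut.apply_inv_self] at h
      exact h
    · rintro t ⟨ht, -⟩ u ⟨-, hu⟩
      exact Subgroup.mem_centralizer_iff.mp hu t ht
  have hZc : ∀ z ∈ Z, ∀ u ∈ Z, z * u = u * z := fun z hz u _ =>
    (Subgroup.mem_center_iff.mp hz u).symm
  have hZs : ∀ z ∈ Z, φ rot z = z := (hyp.rot_fixes_or_comm Z hZinv hZc).resolve_left hnc
  -- weights of the centre
  obtain ⟨ζ, hζ⟩ := exists_jointEigen_ne_bot (fun z : Z => ρ z)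
    fun z u => by rw [← map_mul, ← map_mul, hZc z z.2 u u.2]
  set ζ' : Z → k := fun z => ζ z⁻¹ with hζ'
  set E := jointEigen fun z : Z => ρ z with hE
  have hEk : ∀ χ x, ∀ v ∈ E χ, ρ x v ∈ E χ := fun χ x v hv z => by
    show ρ z (ρ x v) = χ z • ρ x v
    rw [← Module.End.mul_apply, ← map_mul, (Subgroup.mem_center_iff.mp z.2 x).symm, map_mul,
      Module.End.mul_apply, hv z, map_smul]
  have hErot : ∀ χ, ∀ v ∈ E χ, σ rot v ∈ E χ := fun χ v hv z => by
    show ρ z (σ rot v) = χ z • σ rot v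
    have h := LinearMap.congr_fun (hyp.compat rot z) v
    rw [Module.End.mul_apply, Module.End.mul_apply, hZs z z.2, hv z, map_smul] at h
    exact h.symm
  have hEflip : ∀ i χ, ∀ v ∈ E χ, σ (flip i) v ∈ E fun z => χ z⁻¹ := fun i χ v hv z => by
    show ρ z (σ (flip i) v) = χ z⁻¹ • σ (flip i) v
    have h := LinearMap.congr_fun (hyp.compat (flip i) ((z⁻¹ : Z) : K)) v
    rw [Module.End.mul_apply, Module.End.mul_apply, hyp.apply_flip_eq_inv i (hZs _ (z⁻¹).2),
      Subgroup.coe_inv, inv_inv, ← Subgroup.coe_inv, hv z⁻¹, map_smul] at h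
    exact h.symm
  have hrotpow : ∀ χ, ∀ v ∈ E χ, σ (rot * rot) v ∈ E χ := fun χ v hv => by
    rw [map_mul, Module.End.mul_apply]
    exact hErot χ _ (hErot χ v hv)
  have hUtop : E ζ ⊔ E ζ' = ⊤ := by
    refine hyp.eq_top (fun x v hv => ?_) (fun a v hv => ?_) fun h => hζ
      (eq_bot_iff.mpr (h ▸ le_sup_left))
    · have : E ζ ⊔ E ζ' ≤ (E ζ ⊔ E ζ').comap (ρ x) := sup_le
        (fun w hw => Submodule.mem_sup_left (hEk _ x w hw))
        (fun w hw => Submodule.mem_sup_right (hEk _ x w hw))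
      exact this hv
    · have hflip : ∀ i, E ζ ⊔ E ζ' ≤ (E ζ ⊔ E ζ').comap (σ (flip i)) := fun i => sup_le
        (fun w hw => Submodule.mem_sup_right (hEflip i _ w hw))
        (fun w hw => Submodule.mem_sup_left (by
          have h := hEflip i _ w hw
          simpa [hζ', inv_inv] using h))
      have hrot : E ζ ⊔ E ζ' ≤ (E ζ ⊔ E ζ').comap (σ rot) := sup_le
        (fun w hw => Submodule.mem_sup_left (hErot _ w hw))
        (fun w hw => Submodule.mem_sup_right (hErot _ w hw))
      rcases symThree_cases a with rfl | rfl | rfl | ⟨i, rfl⟩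
      · rwa [map_one]
      · exact hrot hv
      · rw [rot_inv, map_mul, Module.End.mul_apply]
        exact hrot (hrot hv)
      · exact hflip i hv
  obtain ⟨v₀, hv₀, hv₀0⟩ := Submodule.exists_mem_ne_zero_of_ne_bot hζ
  have hζinj : ∀ z : Z, ζ z = 1 → z = 1 := by
    intro z hz
    refine Subtype.ext (hyp.inj (LinearMap.ext fun w => ?_))
    have h1 : E ζ ⊔ E ζ' ≤ LinearMap.eqLocus (ρ z) (1 : Module.End k W) := by
      refine sup_le (fun w hw => ?_) fun w hw => ?_
      · show ρ z w = w
        rw [hw z, hz, one_smul]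
      · show ρ z w = w
        have hz1 : ζ z⁻¹ = 1 := by
          have h : ρ ((z⁻¹ : Z) : K) v₀ = ζ z⁻¹ • v₀ := hv₀ z⁻¹
          have h' := congrArg (ρ (z : K)) h
          rw [Subgroup.coe_inv, ← Module.End.mul_apply, ← map_mul, mul_inv_cancel, map_one,
            Module.End.one_apply, map_smul, hv₀ z, hz, one_smul] at h'
          exact smul_left_injective k hv₀0 (h'.symm.trans (one_smul k v₀).symm)
        rw [hw z, hζ']
        simp only [hz1, one_smul]
    rw [Subgroup.coe_one, map_one]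
    exact h1 (hUtop ▸ Submodule.mem_top)
  obtain ⟨z₀, hz₀⟩ : ∃ z : Z, z ≠ 1 := by
    by_contra hno
    push Not at hno
    refine hFnot fun f hf => hZF f hf fun g hg => ?_
    have h : (⟨⁅g, f⁆, hFc g hg f hf⟩ : Z) = 1 := hno _
    exact commutatorElement_eq_one_iff_mul_comm.mp (congrArg Subtype.val h)
  have hne : ζ ≠ ζ' := by
    intro h
    apply hz₀
    have h1 : ζ (z₀ * z₀) = 1 := by
      have h2 : ζ (z₀ * z₀) = ζ z₀ * ζ z₀ := by
        have : ρ ((z₀ * z₀ : Z) : K) v₀ = ζ (z₀ * z₀) • v₀ := hv₀ (z₀ * z₀)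
        rw [Subgroup.coe_mul, map_mul, Module.End.mul_apply, hv₀ z₀, map_smul, hv₀ z₀,
          smul_smul] at this
        exact smul_left_injective k hv₀0 this.symm
      have h3 : ζ z₀ * ζ z₀⁻¹ = 1 := by
        have : ρ ((z₀⁻¹ : Z) : K) v₀ = ζ z₀⁻¹ • v₀ := hv₀ z₀⁻¹
        have h' := congrArg (ρ (z₀ : K)) this
        rw [Subgroup.coe_inv, ← Module.End.mul_apply, ← map_mul, mul_inv_cancel, map_one,
          Module.End.one_apply, map_smul, hv₀ z₀, smul_smul] at h'
        rw [mul_comm]
        exact (smul_left_injective k hv₀0 ((one_smul k v₀).trans h')).symm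
      rw [h2]
      conv_lhs => arg 2; rw [congrFun h z₀]
      exact h3
    have h4 := hζinj _ h1
    exact eq_one_of_pow_six (hyp.cop.coprime_dvd_left (Subgroup.card_subgroup_dvd_card Z))
      (by norm_num : 2 ∣ 6) ((pow_two z₀).trans h4)
  -- restriction to the weight space of `ζ`
  set U := E ζ with hUdef
  haveI : Nontrivial U := Submodule.nontrivial_iff_ne_bot.mpr hζ
  have hQsum : ∀ v ∈ U, v + σ rot v + σ rot (σ rot v) = 0 := by
    intro v hv
    have h := hyp.sum_eq v
    rw [sum_symThree _ 0] at h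
    have hrest : σ (flip 0) v + σ (rot * flip 0) v + σ (rot * rot * flip 0) v ∈ E ζ' := by
      refine Submodule.add_mem _ (Submodule.add_mem _ ?_ ?_) ?_
      · exact hEflip 0 _ v hv
      · rw [map_mul, Module.End.mul_apply]; exact hErot _ _ (hEflip 0 _ v hv)
      · rw [map_mul, Module.End.mul_apply]; exact hrotpow _ _ (hEflip 0 _ v hv)
    rw [map_one, Module.End.one_apply, map_mul σ rot rot, Module.End.mul_apply] at h
    refine Submodule.disjoint_def.mp ((iSupIndep_jointEigen _).pairwiseDisjoint hne) _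
      (Submodule.add_mem _ (Submodule.add_mem _ hv (hErot _ v hv))
        (hErot _ _ (hErot _ v hv))) ?_
    have h' : v + σ rot v + σ rot (σ rot v) =
        -(σ (flip 0) v + σ (rot * flip 0) v + σ (rot * rot * flip 0) v) := by
      rw [eq_neg_iff_add_eq_zero, ← h]; abel
    rw [h']
    exact Submodule.neg_mem _ hrest
  let R : F →* Module.End k U :=
    { toFun := fun f => (ρ (f : K)).restrict (hEk ζ f)
      map_one' := LinearMap.ext fun u => Subtype.ext (by
        show ρ ((1 : F) : K) u = _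
        rw [Subgroup.coe_one, map_one]; rfl)
      map_mul' := fun f g => LinearMap.ext fun u => Subtype.ext (by
        show ρ ((f * g : F) : K) u = ρ f (ρ g u)
        rw [Subgroup.coe_mul, map_mul]; rfl) }
  let g : Module.End k U := (σ rot).restrict (hErot ζ)
  let s : MulAut F := Wielandt.restrictAct φ F hFinv rot
  obtain ⟨c, hc⟩ : ∃ c : k, c * c + c + 1 = 0 := by
    obtain ⟨c, hc⟩ := IsAlgClosed.exists_eq_mul_self (k := k) ((-3 : k))
    refine ⟨(c - 1) / 2, ?_⟩
    have h2 := hyp.two_ne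
    field_simp
    linear_combination -hc
  have hfix3 : ∀ f ∈ F, φ rot f = f := by
    intro f hf
    have hkey := inv_mul_apply_mem R g s (fun y => Subtype.ext (by
        show φ rot (φ rot (φ rot (y : K))) = y
        rw [← MulAut.mul_apply, ← MulAut.mul_apply, ← map_mul, ← map_mul, mul_assoc, rot_cube,
          map_one]
        rfl))
      (fun y => LinearMap.ext fun u => Subtype.ext (LinearMap.congr_fun (hyp.compat rot y) u))
      (LinearMap.ext fun u => Subtype.ext (by
        show σ rot (σ rot u) + σ rot u + (u : W) = 0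
        rw [← hQsum u u.2]; abel))
      hc hyp.three_ne (Z.subgroupOf F) (fun z hz => Subtype.ext (hZs z hz))
      (fun y y' => hFc y y.2 y' y'.2)
      (fun z hz => ⟨ζ ⟨z, hz⟩, LinearMap.ext fun u => Subtype.ext (u.2 ⟨z, hz⟩)⟩)
      (fun y hy => by
        obtain ⟨y', hy'⟩ : ∃ y' : F, (y' : K) * y ≠ y * y' := by
          by_contra hno
          push Not at hno
          exact hy (hZF y y.2 fun w hw => hno ⟨w, hw⟩)
        refine ⟨y', fun h => hy' ?_⟩
        have hmem : ⁅(y' : K), (y : K)⁆ ∈ Z := hFc y' y'.2 y y.2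
        have h1 : ζ ⟨_, hmem⟩ = 1 := by
          have h2 : ρ ⁅(y' : K), (y : K)⁆ v₀ = v₀ :=
            congrArg Subtype.val (LinearMap.congr_fun h ⟨v₀, hv₀⟩)
          rw [hv₀ ⟨_, hmem⟩] at h2
          exact smul_left_injective k hv₀0 (h2.trans (one_smul k v₀).symm)
        exact commutatorElement_eq_one_iff_mul_comm.mp (congrArg Subtype.val (hζinj _ h1)))
      (hyp.cop.coprime_dvd_left (Subgroup.card_subgroup_dvd_card F)) ⟨f, hf⟩
    set z := f⁻¹ * φ rot f with hz
    have hzZ : z ∈ Z := hkey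
    have h1 : φ rot f = f * z := by rw [hz, mul_inv_cancel_left]
    have h3 : φ rot (φ rot (φ rot f)) = f := by
      rw [← MulAut.mul_apply, ← MulAut.mul_apply, ← map_mul, ← map_mul, mul_assoc, rot_cube,
        map_one]
      rfl
    rw [h1, map_mul, h1, hZs z hzZ, map_mul, map_mul, h1, hZs z hzZ, mul_assoc, mul_assoc] at h3
    have h4 : z ^ 3 = 1 := by rw [pow_three]; exact mul_left_cancel (h3.trans (mul_one f).symm)
    rw [h1, eq_one_of_pow_six hyp.cop (by norm_num : 3 ∣ 6) h4, mul_one]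
  refine hFnot fun f hf => hZF f hf fun w hw => ?_
  have h1 := hyp.apply_flip_eq_inv 0 (hfix3 _ (F.mul_mem hw hf))
  rw [map_mul, hyp.apply_flip_eq_inv 0 (hfix3 _ hw), hyp.apply_flip_eq_inv 0 (hfix3 _ hf),
    mul_inv_rev] at h1
  have h2 := congrArg (·⁻¹) h1
  simp only [mul_inv_rev, inv_inv] at h2
  exact h2.symm

end IsFpfModule

end Cfsg.Agent.Lib.FpfSymThree
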