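import Mathlib

/-!
Elementary facts about the symmetric group of degree three, used for its fixed-point-free
actions.
-/

set_option autoImplicit false

namespace Cfsg.Agent.Lib.FpfSymThree

/-- The symmetric group of degree three. -/
abbrev SymThree : Type := Equiv.Perm (Fin 3)

/-- A three-cycle. -/
def rot : SymThree := finRotate 3

/-- The transposition fixing `i`. -/
def flip (i : Fin 3) : SymThree := Equiv.swap (i + 1) (i + 2)

theorem natCard_symThree : Nat.card SymThree = 6 := by
  rw [Nat.card_eq_fintype_card]; rfl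

theorem rot_cube : rot * (rot * rot) = 1 := by decide +kernel

theorem rot_ne_one : rot ≠ 1 := by decide +kernel

theorem rot_sq_ne_one : rot * rot ≠ 1 := by decide +kernel

theorem flip_ne_one (i : Fin 3) : flip i ≠ 1 := by revert i; decide +kernel

theorem flip_mul_self (i : Fin 3) : flip i * flip i = 1 := by revert i; decide +kernel

theorem flip_ne_rot (i : Fin 3) : flip i ≠ rot ∧ flip i ≠ rot⁻¹ := by revert i; decide +kernel

theorem conj_flip : ∀ (a : SymThree) (i : Fin 3), a * flip i = flip (a i) * a := by
  decide +kernel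

theorem flip_mul_rot (i : Fin 3) : flip i * rot = rot * rot * flip i := by
  revert i; decide +kernel

theorem flip_mul_rot_sq (i : Fin 3) : flip i * (rot * rot) = rot * flip i := by
  revert i; decide +kernel

theorem flip_apply (i : Fin 3) :
    flip i i = i ∧ flip i (rot i) = rot (rot i) ∧ flip i (rot (rot i)) = rot i ∧
      rot (rot (rot i)) = i := by
  revert i; decide +kernel

theorem exists_rot_pair : ∀ i j : Fin 3, i ≠ j →
    ∃ m, (rot m = i ∧ rot (rot m) = j) ∨ (rot m = j ∧ rot (rot m) = i) := by
  decide +kernel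

theorem exists_third : ∀ i j : Fin 3, i ≠ j →
    ∃ l, l ≠ i ∧ l ≠ j ∧ flip i l = j ∧ ∀ m, m = i ∨ m = j ∨ m = l := by
  decide +kernel

theorem symThree_cases : ∀ a : SymThree,
    a = 1 ∨ a = rot ∨ a = rot⁻¹ ∨ ∃ i, a = flip i := by
  decide +kernel

theorem mul_rot_cases : ∀ a : SymThree, a⁻¹ * rot * a = rot ∨ a⁻¹ * rot * a = rot⁻¹ := by
  decide +kernel

theorem rot_inv : rot⁻¹ = rot * rot := by decide +kernel

/-- Two elements generating the symmetric group of degree three. -/
theorem word_cases : ∀ a b c : SymThree, a ≠ 1 → b ≠ 1 → b ≠ a → b ≠ a⁻¹ →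
    c ∈ [1, a, b, a * a, a * b, b * a, b * b, a * b * a, b * a * b, a * a * b, b * b * a] := by
  decide +kernel

/-- A subgroup containing two generators is everything. -/
theorem eq_top_of_two_mem {S : Subgroup SymThree} {a b : SymThree} (ha : a ∈ S) (hb : b ∈ S)
    (ha1 : a ≠ 1) (hb1 : b ≠ 1) (hab : b ≠ a) (hab' : b ≠ a⁻¹) : S = ⊤ := by
  refine eq_top_iff.mpr fun c _ => ?_
  have h := word_cases a b c ha1 hb1 hab hab'
  simp only [List.mem_cons, List.not_mem_nil, or_false] at h
  rcases h with rfl | rfl | rfl | rfl | rfl | rfl | rfl | rfl | rfl | rfl | rfl <;>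
    first
      | exact S.one_mem
      | assumption
      | exact S.mul_mem (by assumption) (by assumption)
      | exact S.mul_mem (S.mul_mem (by assumption) (by assumption)) (by assumption)

theorem eq_top_of_rot_flip {S : Subgroup SymThree} {i : Fin 3} (hs : rot ∈ S)
    (ht : flip i ∈ S) : S = ⊤ :=
  eq_top_of_two_mem hs ht rot_ne_one (flip_ne_one i) (flip_ne_rot i).1 (flip_ne_rot i).2

theorem flip_ne_flip : ∀ i j : Fin 3, j ≠ i → flip j ≠ flip i ∧ flip j ≠ (flip i)⁻¹ := by
  decide +kernel

theorem eq_top_of_flip_flip {S : Subgroup SymThree} {i j : Fin 3} (hij : j ≠ i)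
    (hi : flip i ∈ S) (hj : flip j ∈ S) : S = ⊤ :=
  eq_top_of_two_mem hi hj (flip_ne_one i) (flip_ne_one j) (flip_ne_flip i j hij).1
    (flip_ne_flip i j hij).2

/-- The six elements listed relative to a transposition. -/
theorem sum_symThree {M : Type*} [AddCommMonoid M] (g : SymThree → M) (i : Fin 3) :
    ∑ a, g a = g 1 + g rot + g (rot * rot) + g (flip i) + g (rot * flip i)
      + g (rot * rot * flip i) := by
  have hb : Function.Bijective
      ![1, rot, rot * rot, flip i, rot * flip i, rot * rot * flip i] := by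
    revert i; decide +kernel
  rw [← hb.sum_comp g, Fin.sum_univ_six]
  rfl

end Cfsg.Agent.Lib.FpfSymThree
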